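import Cfsg.Agent.Known.ChevAut.Shape
import Cfsg.Agent.Chev.Graph
import Cfsg.Prelude.Def_KGroupFacts

/-! The outer automorphism group of a Chevalley group. -/

set_option autoImplicit false

open Cfsg.Lie Cfsg.Lib.Chev

namespace Cfsg.Lib.Known.ChevAut

/-- The injective bond-preserving partial maps on the first `k` nodes. -/
noncomputable def symPrefix (D : ChevalleyDatum) : ℕ → List (List ℕ) :=
  @Nat.rec (fun _ => List (List ℕ)) [[]] fun k P =>
    P.flatMap fun l => ((List.range D.rank).filter fun x =>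
      !l.elem x && (List.range k).all fun i => decide (D.bonds (l.getD i 0) x = D.bonds i k)).map fun x => l ++ [x]

/-- The images of the nodes, as a list. -/
def nodeList {D : ChevalleyDatum} (π : Equiv.Perm (Fin D.rank)) (k : ℕ) : List ℕ :=
  (List.range k).map fun i => if h : i < D.rank then (π ⟨i, h⟩).val else 0

theorem mem_symPrefix {D : ChevalleyDatum} {π : Equiv.Perm (Fin D.rank)} (hπ : D.IsDiagramSymmetry π) :
    ∀ k ≤ D.rank, nodeList π k ∈ symPrefix D k := by
  intro k
  induction k with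
  | zero => intro _; simp [nodeList, symPrefix]
  | succ k ih =>
    intro hk
    show nodeList π (k + 1) ∈ (symPrefix D k).flatMap _
    refine List.mem_flatMap.2 ⟨_, ih (by omega), List.mem_map.2 ⟨(π ⟨k, by omega⟩).val, ?_, ?_⟩⟩
    · simp only [List.mem_filter, List.mem_range, Bool.and_eq_true, Bool.not_eq_true', List.all_eq_true,
        decide_eq_true_eq]
      refine ⟨(π ⟨k, by omega⟩).isLt, ?_, fun i hi => ?_⟩
      · rw [← Bool.not_eq_true]
        intro h
        simp only [nodeList, List.elem_eq_mem, decide_eq_true_eq, List.mem_map, List.mem_range] at h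
        obtain ⟨i, hi, e⟩ := h
        rw [dif_pos (by omega)] at e
        have := congrArg Fin.val (π.injective (Fin.ext e))
        simp at this
        omega
      · rw [show (nodeList π k).getD i 0 = (π ⟨i, by omega⟩).val by
          simp [nodeList, List.getD, hi, show i < D.rank by omega]]
        exact hπ ⟨i, by omega⟩ ⟨k, by omega⟩ (by simp [Fin.ext_iff]; omega)
    · simp [nodeList, List.range_succ, show k < D.rank by omega]

/-- The diagram symmetries, as lists. -/
noncomputable def symList (D : ChevalleyDatum) : List (List ℕ) := symPrefix D D.rank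

theorem card_sym_le {D : ChevalleyDatum} {N : ℕ} (h : (symList D).length ≤ N)
    (H : Subgroup (Equiv.Perm (Fin D.rank))) (hH : ∀ π ∈ H, D.IsDiagramSymmetry π) : Nat.card ↥H ≤ N := by
  classical
  let e : ↥H → {l : List ℕ // l ∈ (symList D).toFinset} := fun π =>
    ⟨nodeList π.1 D.rank, List.mem_toFinset.2 (mem_symPrefix (hH π.1 π.2) D.rank le_rfl)⟩
  have he : Function.Injective e := by
    intro a b hab
    refine Subtype.ext (Equiv.ext fun i => Fin.ext ?_)
    have h1 : nodeList a.1 D.rank = nodeList b.1 D.rank := congrArg Subtype.val hab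
    have := congrArg (fun l => l.getD i.val 0) h1
    simpa [nodeList, List.getD, i.isLt] using this
  calc Nat.card ↥H ≤ Nat.card {l : List ℕ // l ∈ (symList D).toFinset} := Nat.card_le_card_of_injective e he
    _ = (symList D).toFinset.card := by rw [Nat.card_eq_fintype_card, Fintype.card_coe]
    _ ≤ N := le_trans (List.toFinset_card_le _) h

theorem sym_G2 : (symList chevG2).length ≤ 2 := by decide +kernel
theorem sym_B2 : (symList chevB2).length ≤ 2 := by decide +kernel
theorem sym_D4 : (symList chevD4).length ≤ 6 := by decide +kernel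
theorem sym_F4 : (symList chevF4).length ≤ 2 := by decide +kernel
theorem sym_E6 : (symList chevE6).length ≤ 2 := by decide +kernel
theorem sym_E7 : (symList chevE7).length ≤ 1 := by decide +kernel
theorem sym_E8 : (symList chevE8).length ≤ 1 := by decide +kernel

theorem symmetry_E8 {π : Equiv.Perm (Fin chevE8.rank)} (hπ : chevE8.IsDiagramSymmetry π) : π = 1 := by
  have h : symList chevE8 = [[0, 1, 2, 3, 4, 5, 6, 7]] := by decide +kernel
  have h1 := mem_symPrefix hπ chevE8.rank le_rfl
  rw [show symPrefix chevE8 chevE8.rank = [[0, 1, 2, 3, 4, 5, 6, 7]] from h, List.mem_singleton] at h1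
  refine Equiv.ext fun i => Fin.ext ?_
  have h2 := congrArg (fun l => l.getD i.val 0) h1
  simp only [nodeList, List.getD, List.getElem?_map, List.getElem?_range i.isLt, Option.map_some,
    Option.getD_some, dif_pos i.isLt] at h2
  rw [h2, Equiv.Perm.one_apply]
  clear h2 h1
  obtain ⟨i, hi'⟩ := i
  have hr : chevE8.rank = 8 := by decide +kernel
  have hi : i < 8 := hr ▸ hi'
  show [0, 1, 2, 3, 4, 5, 6, 7][i]?.getD 0 = i
  clear hi' hπ π h
  interval_cases i <;> rfl

variable {D : ChevalleyDatum} {C : Cert} {L : List ℕ} {T : List (List ℤ)} {F : Type*} [Field F]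

/-- Field automorphisms as a homomorphism. -/
noncomputable def fieldHom (S : Struct D C) (F : Type*) [Field F] : (F ≃+* F) →* MulAut ↥(D.group F) :=
  MonoidHom.mk' (fun σ => Classical.choose (S.ok.exists_fieldAut σ)) fun σ τ => by
    refine mulAut_ext S (fun i t => ?_) fun i t => ?_
    all_goals refine Subtype.ext (Units.ext ?_)
    all_goals rw [MulAut.mul_apply]
    · rw [Classical.choose_spec (S.ok.exists_fieldAut (σ * τ)) _ _ t (simple_lt S i) (S.ok.val_xG _ _),
        Classical.choose_spec (S.ok.exists_fieldAut σ) _ _ (τ t) (simple_lt S i)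
          (Classical.choose_spec (S.ok.exists_fieldAut τ) _ _ t (simple_lt S i) (S.ok.val_xG _ _))]
      rfl
    · rw [Classical.choose_spec (S.ok.exists_fieldAut (σ * τ)) _ _ t (negSimple_lt S i) (S.ok.val_xG _ _),
        Classical.choose_spec (S.ok.exists_fieldAut σ) _ _ (τ t) (negSimple_lt S i)
          (Classical.choose_spec (S.ok.exists_fieldAut τ) _ _ t (negSimple_lt S i) (S.ok.val_xG _ _))]
      rfl

theorem fieldHom_root (S : Struct D C) (σ : F ≃+* F) {r : ℕ} (hr : r < D.nroots) (t : F) :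
    fieldHom S F σ ⟨S.ok.xG r t, S.ok.xG_mem_group _ _⟩ = ⟨S.ok.xG r (σ t), S.ok.xG_mem_group _ _⟩ :=
  Subtype.ext (Units.ext (Classical.choose_spec (S.ok.exists_fieldAut σ) _ r t hr (S.ok.val_xG _ _)))

theorem mem_fieldHom_range (S : Struct D C) {φ : MulAut ↥(D.group F)} :
    φ ∈ (fieldHom S F).range ↔ D.IsFieldAut φ := by
  constructor
  · rintro ⟨σ, rfl⟩
    exact ⟨σ, Classical.choose_spec (S.ok.exists_fieldAut σ)⟩
  · intro h
    obtain ⟨σ, hσ⟩ := field_apply S h
    refine ⟨σ, mulAut_ext S (fun i t => ?_) fun i t => ?_⟩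
    · exact (fieldHom_root S σ (simple_lt S i) t).trans (hσ _ (simple_lt S i) t).symm
    · exact (fieldHom_root S σ (negSimple_lt S i) t).trans (hσ _ (negSimple_lt S i) t).symm

theorem closure_field (S : Struct D C) :
    Subgroup.closure {φ : MulAut ↥(D.group F) | D.IsFieldAut φ} = (fieldHom S F).range :=
  le_antisymm ((Subgroup.closure_le _).2 fun _ h => (mem_fieldHom_range S).2 h)
    fun _ h => Subgroup.subset_closure ((mem_fieldHom_range S).1 h)

theorem ringAut_facts [Fintype F] (p f : ℕ) [Fact p.Prime] [CharP F p] (hF : Fintype.card F = p ^ f) :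
    IsCyclic (F ≃+* F) ∧ Nat.card (F ≃+* F) = f := by
  letI := ZMod.algebra F p
  have hfin : FiniteDimensional (ZMod p) F := Module.Finite.of_finite
  let eA : (F ≃+* F) ≃* (F ≃ₐ[ZMod p] F) :=
    { toFun := fun σ => AlgEquiv.ofRingEquiv (f := σ) (fun k => DFunLike.congr_fun
        (Subsingleton.elim (σ.toRingHom.comp (algebraMap (ZMod p) F)) (algebraMap (ZMod p) F)) k)
      invFun := fun σ => σ.toRingEquiv
      left_inv := fun σ => RingEquiv.ext fun _ => rfl
      right_inv := fun σ => AlgEquiv.ext fun _ => rfl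
      map_mul' := fun σ τ => AlgEquiv.ext fun _ => rfl }
  have hcard : Nat.card (F ≃ₐ[ZMod p] F) = f := by
    rw [IsGalois.card_aut_eq_finrank]
    have h := Module.natCard_eq_pow_finrank (K := ZMod p) (V := F)
    rw [Nat.card_eq_fintype_card, hF, Nat.card_zmod] at h
    exact (Nat.pow_right_injective (Fact.out : p.Prime).two_le h).symm
  haveI : IsCyclic (F ≃ₐ[ZMod p] F) := inferInstance
  exact ⟨isCyclic_of_surjective eA.symm.toMonoidHom eA.symm.surjective, (Nat.card_congr eA.toEquiv).trans hcard⟩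

theorem diag_comm (S : Struct D C) (hc : okChar D = true) {d d' : MulAut ↥(D.group F)}
    (hd : D.IsDiagonalAut d) (hd' : D.IsDiagonalAut d') : d * d' = d' * d := by
  obtain ⟨χ, -, h⟩ := diag_apply S hc hd
  obtain ⟨χ', -, h'⟩ := diag_apply S hc hd'
  refine mulAut_ext S (fun i t => ?_) fun i t => ?_
  · rw [MulAut.mul_apply, MulAut.mul_apply, gp, h' _ (simple_lt S i), h _ (simple_lt S i), h _ (simple_lt S i),
      h' _ (simple_lt S i)]
    exact Subtype.ext (by rw [mul_left_comm])
  · rw [MulAut.mul_apply, MulAut.mul_apply, gm, h' _ (negSimple_lt S i), h _ (negSimple_lt S i),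
      h _ (negSimple_lt S i), h' _ (negSimple_lt S i)]
    exact Subtype.ext (by rw [mul_left_comm])

theorem field_conj_diag (hT : Tabs D C L T) {d φ : MulAut ↥(D.group F)} (hd : D.IsDiagonalAut d)
    (hφ : D.IsFieldAut φ) : D.IsDiagonalAut (φ * d * φ⁻¹) := by
  have S := hT.str
  obtain ⟨χ, hχ, h⟩ := diag_apply S hT.chr hd
  obtain ⟨σ, hσ⟩ := field_apply S hφ
  let χ' : ℕ → Fˣ := fun r => Units.map σ.toMonoidHom (χ r)
  have hχ' : D.IsRootCharacter χ' := ⟨fun r hr => by simp [χ', hχ.1 r hr],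
    fun r s k hr hs hk => by simp [χ', hχ.2 r s k hr hs hk]⟩
  obtain ⟨d', hd', h'⟩ := exists_diagAut S hT.chr hχ'
  have key : φ * d = d' * φ := by
    refine mulAut_ext S (fun i t => ?_) fun i t => ?_
    · rw [MulAut.mul_apply, MulAut.mul_apply, gp, h _ (simple_lt S i), hσ _ (simple_lt S i),
        hσ _ (simple_lt S i), h' _ (simple_lt S i)]
      exact Subtype.ext (by rw [map_mul]; rfl)
    · rw [MulAut.mul_apply, MulAut.mul_apply, gm, h _ (negSimple_lt S i), hσ _ (negSimple_lt S i),
        hσ _ (negSimple_lt S i), h' _ (negSimple_lt S i)]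
      exact Subtype.ext (by rw [map_mul]; rfl)
  rwa [key, mul_inv_cancel_right]

theorem graph_conj_diag [Finite F] (hT : Tabs D C L T) {d g : MulAut ↥(D.group F)} (hd : D.IsDiagonalAut d)
    (hg : D.IsGraphAut g) : D.IsDiagonalAut (g * d * g⁻¹) := by
  have S := hT.str
  obtain ⟨χ, hχ, h⟩ := diag_apply S hT.chr hd
  obtain ⟨π, -, hp, hm⟩ := graph_apply S hg
  have hc := chiOf_isRootCharacter (F := F) hT.ht
    fun j => χ (D.simple (π.symm j)) ^ expo D F π (π.symm j)
  obtain ⟨d', hd', h'⟩ := exists_diagAut S hT.chr hc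
  have key : g * d = d' * g := by
    refine mulAut_ext S (fun i t => ?_) fun i t => ?_
    · rw [MulAut.mul_apply, MulAut.mul_apply, hp, gp, gp, h _ (simple_lt S i), h' _ (simple_lt S (π i))]
      refine (hp i _).trans (Subtype.ext ?_)
      show S.ok.xG _ _ = S.ok.xG _ _
      rw [chiOf_simple hT.ht, Equiv.symm_apply_apply, mul_pow, Units.val_pow_eq_pow_val]
    · rw [MulAut.mul_apply, MulAut.mul_apply, hm, gm, gm, h _ (negSimple_lt S i), h' _ (negSimple_lt S (π i))]
      refine (hm i _).trans (Subtype.ext ?_)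
      show S.ok.xG _ _ = S.ok.xG _ _
      rw [hc.1 _ (simple_lt S (π i)), chiOf_simple hT.ht, Equiv.symm_apply_apply, mul_pow, hχ.1 _ (simple_lt S i)]
      simp [inv_pow]
  rwa [key, mul_inv_cancel_right]

/-- The subgroup generated by the diagonal automorphisms. -/
noncomputable def diagGrp (D : ChevalleyDatum) (F : Type*) [Field F] : Subgroup (MulAut ↥(D.group F)) :=
  Subgroup.closure {φ : MulAut ↥(D.group F) | D.IsDiagonalAut φ}

theorem diag_normal [Finite F] (hT : Tabs D C L T) :
    ((diagGrp D F).map (QuotientGroup.mk' (Cfsg.Inn ↥(D.group F)))).Normal := by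
  set q := QuotientGroup.mk' (Cfsg.Inn ↥(D.group F)) with hq
  refine ⟨fun n hn o => ?_⟩
  obtain ⟨θ, rfl⟩ := QuotientGroup.mk'_surjective _ o
  obtain ⟨x, hx, rfl⟩ := hn
  suffices key : diagGrp D F ≤ ((diagGrp D F).map q).comap (q.comp (MulAut.conj θ).toMonoidHom) by
    have := key hx
    rwa [Subgroup.mem_comap, MonoidHom.comp_apply, MulEquiv.coe_toMonoidHom, MulAut.conj_apply, map_mul, map_mul,
      map_inv] at this
  refine (Subgroup.closure_le _).2 fun d₀ hd₀ => ?_
  show q (θ * d₀ * θ⁻¹) ∈ (diagGrp D F).map q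
  obtain ⟨a, d, g, f, hd, hg, hf, e⟩ := decomp hT θ
  have h1 : q (MulAut.conj a) = 1 := (QuotientGroup.eq_one_iff _).2 ⟨a, rfl⟩
  have h2 : q (θ * d₀ * θ⁻¹) = q (d * (g * (f * d₀ * f⁻¹) * g⁻¹) * d⁻¹) := by
    rw [show θ * d₀ * θ⁻¹ = MulAut.conj a * (d * (g * (f * d₀ * f⁻¹) * g⁻¹) * d⁻¹) * (MulAut.conj a)⁻¹ by
      rw [e]; group, map_mul, map_mul, map_inv, h1, one_mul, inv_one, mul_one]
  rw [h2]
  exact ⟨_, mul_mem (mul_mem (Subgroup.subset_closure hd)
    (Subgroup.subset_closure (graph_conj_diag hT (field_conj_diag hT hd₀ hf) hg)))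
    (inv_mem (Subgroup.subset_closure hd)), rfl⟩

theorem ker_diagHom [Finite F] (hT : Tabs D C L T) :
    (diagHom (F := F) hT).ker =
      ((diagGrp D F).map (QuotientGroup.mk' (Cfsg.Inn ↥(D.group F))) ⊔
        (Subgroup.closure {φ : MulAut ↥(D.group F) | D.IsFieldAut φ}).map
          (QuotientGroup.mk' (Cfsg.Inn ↥(D.group F)))).comap (QuotientGroup.mk' (Cfsg.Inn ↥(D.group F))) := by
  rw [← Subgroup.map_sup, Subgroup.comap_map_eq, QuotientGroup.ker_mk']
  apply le_antisymm
  · intro θ hθ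
    obtain ⟨a, d, g, f, hd, hg, hf, e, h1⟩ := decomp_kind hT θ
    rw [e, h1 hθ, mul_one]
    exact mul_mem (mul_mem (Subgroup.mem_sup_right ⟨a, rfl⟩)
      (Subgroup.mem_sup_left (Subgroup.mem_sup_left (Subgroup.subset_closure hd))))
      (Subgroup.mem_sup_left (Subgroup.mem_sup_right (Subgroup.subset_closure hf)))
  · refine sup_le (sup_le ((Subgroup.closure_le _).2 fun d hd => ?_) ((Subgroup.closure_le _).2 fun f hf => ?_)) ?_
    · exact diagHom_eq hT (Kind.of_shape (shape_diag hT.str hT.chr hd))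
    · exact diagHom_eq hT (Kind.of_shape (shape_field hT.str hf))
    · rintro _ ⟨a, rfl⟩
      exact diagHom_eq hT (kind_conj hT.str a)

theorem index_eq [Finite F] (hT : Tabs D C L T) {N : Subgroup (Cfsg.Out ↥(D.group F))}
    (hN : (diagHom (F := F) hT).ker = N.comap (QuotientGroup.mk' (Cfsg.Inn ↥(D.group F)))) :
    N.Normal ∧ N.index = Nat.card ↥(diagHom (F := F) hT).range := by
  have hs := QuotientGroup.mk'_surjective (Cfsg.Inn ↥(D.group F))
  constructor
  · have h := (MonoidHom.normal_ker (diagHom (F := F) hT)).map _ hs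
    rwa [hN, Subgroup.map_comap_eq_self_of_surjective hs] at h
  · rw [← Subgroup.index_comap_of_surjective N hs, ← hN, Subgroup.index_ker]

theorem d4_perms [Finite F] (hT : Tabs chevD4 C L T) (S : Struct chevD4 D4.cert) {G : GTab} {pi : List ℕ}
    (hG : G.okAut D4.cert = true) (hpi : GTab.okSimple G D4.cert pi = true)
    (hpos : ∀ r : Fin chevD4.nroots, (chevD4.nroots / 2 ≤ G.rho chevD4.rank r ↔ chevD4.nroots / 2 ≤ r.val))
    (π : Equiv.Perm (Fin chevD4.rank)) (hπ : ∀ i : Fin chevD4.rank, (π i).val = pi.getD i.val 0) :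
    π ∈ (diagHom (F := F) hT).range := by
  obtain ⟨α, hα⟩ := GTab.exists_aut (F := F) S.ok hG
  obtain ⟨hU, hV⟩ := fixes_UV S (η := α) fun r hr t =>
    ⟨G.rho chevD4.rank r, _, GTab.rho_lt S.ok hG hr, hpos ⟨r, hr⟩,
      S.ok.eq_xG (hα _ r t hr (S.ok.val_xG _ _))⟩
  refine ⟨α, diagHom_eq hT (Kind.of_shape ⟨hU, hV, fun i t => ?_⟩)⟩
  have h0 := kall_krange hpi i.val (S.ok.l_eq.symm ▸ i.isLt)
  simp only [Bool.and_eq_true] at h0
  have a := Nat.eq_of_beq_eq_true h0.1.1.1.1
  rw [S.ok.l_eq, S.ok.sr_eq i.isLt, ← hπ i, S.ok.sr_eq (π i).isLt] at a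
  refine ⟨(G.eps chevD4.rank (chevD4.simple i) : F) * t, Subtype.ext ?_⟩
  have h1 := S.ok.eq_xG (hα (gp hT.str i t) (chevD4.simple i) t (simple_lt S i) (hT.str.ok.val_xG _ _))
  rw [a] at h1
  exact Units.ext (by rw [h1, S.ok.val_xG]; exact (hT.str.ok.val_xG _ _).symm)

end Cfsg.Lib.Known.ChevAut
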