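import Cfsg.Agent.Known.ChevFieldInvolution
import Cfsg.Agent.Chev.Opp

/-! Automorphisms of Chevalley groups: normalising the unipotent subgroups and the torus. -/

set_option autoImplicit false

open Cfsg.Lie Cfsg.Lib.Chev
open scoped Pointwise

namespace Cfsg.Lib.Known.ChevAut

variable {D : ChevalleyDatum} {C : Cert} {F : Type*} [Field F]

/-- `θ` fixes the subgroup `W`. -/
def Fixes (θ : MulAut ↥(D.group F)) (W : Subgroup (GL D.Idx F)) : Prop :=
  ∀ x : ↥(D.group F), ((θ x : ↥(D.group F)) : GL D.Idx F) ∈ W ↔ (x : GL D.Idx F) ∈ W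

theorem Fixes.symm {θ : MulAut ↥(D.group F)} {W : Subgroup (GL D.Idx F)} (h : Fixes θ W) : Fixes θ⁻¹ W := by
  intro x
  have := h (θ⁻¹ x)
  rw [MulAut.apply_inv_self] at this
  exact this.symm

theorem Fixes.mul {θ η : MulAut ↥(D.group F)} {W : Subgroup (GL D.Idx F)} (h : Fixes θ W) (h' : Fixes η W) :
    Fixes (θ * η) W := fun x => by rw [MulAut.mul_apply, h, h']

theorem U_le_group (S : Struct D C) : D.posUnipotent F ≤ D.group F :=
  fun _ hu => S.borel_le_group (S.B_le_of hu)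

theorem V_le_group (S : Struct D C) : D.negUnipotent F ≤ D.group F :=
  le_sup_right.trans (le_of_eq S.ok.posUnipotent_sup_negUnipotent)

/-- `U` is a Sylow subgroup for the characteristic. -/
theorem exists_sylow_U [Fintype F] (p : ℕ) [Fact p.Prime] [CharP F p] (S : Struct D C) (hN : okNeg D = true) :
    ∃ P : Sylow p ↥(D.group F), (P : Subgroup ↥(D.group F)) = (D.posUnipotent F).subgroupOf (D.group F) := by
  set U := (D.posUnipotent F).subgroupOf (D.group F) with hU
  have hUle := U_le_group (F := F) S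
  obtain ⟨k, hp, hk⟩ := FiniteField.card F p
  have hcardU : Nat.card ↥U = p ^ (k.val * (D.nroots / 2)) := by
    rw [Nat.card_congr (Subgroup.subgroupOfEquivOfLe hUle).toEquiv, S.card_posUnipotent, hk, ← pow_mul]
  have hUp : IsPGroup p ↥U := IsPGroup.of_card hcardU
  obtain ⟨P, hUP⟩ := hUp.exists_le_sylow
  refine ⟨P, le_antisymm ?_ hUP⟩
  by_contra hlt
  haveI : Group.IsNilpotent ↥(P : Subgroup ↥(D.group F)) := P.isPGroup'.isNilpotent
  have hgrow := normalizerCondition_of_isNilpotent (U.subgroupOf (P : Subgroup ↥(D.group F)))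
    (lt_top_iff_ne_top.2 (fun h => hlt (Subgroup.subgroupOf_eq_top.1 h)))
  obtain ⟨x, hxN, hxU⟩ := SetLike.exists_of_lt hgrow
  have hxG : ((x : ↥(D.group F)) : GL D.Idx F) ∈ D.borelSubgroup F := by
    refine ChevFixed.mem_borel_of_normalizer S hN (x : ↥(D.group F)).2 (Subgroup.mem_normalizer_iff.2 fun y => ?_)
    have key := fun z : ↥(P : Subgroup ↥(D.group F)) => Subgroup.mem_normalizer_iff.1 hxN z
    simp only [Subgroup.mem_subgroupOf, hU, Subgroup.coe_mul, InvMemClass.coe_inv] at key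
    constructor
    · intro hy
      exact (key ⟨⟨y, hUle hy⟩, hUP hy⟩).1 hy
    · intro hy
      set x' := ((x : ↥(D.group F)) : GL D.Idx F)
      have hy' : y ∈ D.group F := by
        have := mul_mem (mul_mem (inv_mem (x : ↥(D.group F)).2) (hUle hy)) (x : ↥(D.group F)).2
        simpa [x', mul_assoc] using this
      have hyP : (⟨y, hy'⟩ : ↥(D.group F)) ∈ (P : Subgroup ↥(D.group F)) := by
        have hz : (⟨x' * y * x'⁻¹, hUle hy⟩ : ↥(D.group F)) ∈ (P : Subgroup ↥(D.group F)) := hUP hy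
        have := mul_mem (mul_mem (inv_mem x.2) hz) x.2
        convert this using 1
        apply Subtype.ext
        simp [x', mul_assoc]
      exact (key ⟨⟨y, hy'⟩, hyP⟩).2 hy
  obtain ⟨u, hu, d, hd, hud⟩ := S.borel_decomp hxG
  have hdP : (⟨d, S.diag_le_group hd⟩ : ↥(D.group F)) ∈ (P : Subgroup ↥(D.group F)) := by
    have := mul_mem (inv_mem (hUP (show (⟨u, hUle hu⟩ : ↥(D.group F)) ∈ U from hu))) x.2
    convert this using 1
    apply Subtype.ext
    simp [hud]
  obtain ⟨j, hj⟩ := P.isPGroup' ⟨_, hdP⟩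
  have hd2 : d ^ p ^ j = 1 := congrArg (fun z : ↥(P : Subgroup ↥(D.group F)) => ((z : ↥(D.group F)) : GL D.Idx F)) hj
  rw [S.ok.diagonalSubgroup_eq] at hd
  obtain ⟨c, rfl⟩ := hd
  have hc1 : Ok.tG D F c ^ (Fintype.card F - 1) = 1 := by
    rw [← map_pow, show c ^ (Fintype.card F - 1) = 1 from funext fun i => Units.ext (by
      simpa using FiniteField.pow_card_sub_one_eq_one (c i : F) (c i).ne_zero), map_one]
  have hco : Nat.Coprime (p ^ j) (Fintype.card F - 1) := by
    refine Nat.Coprime.pow_left _ (hp.coprime_iff_not_dvd.2 fun h => ?_)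
    have h1 : p ∣ Fintype.card F := by rw [hk]; exact dvd_pow_self _ k.ne_zero
    have h2 := Nat.dvd_sub h1 h
    rw [Nat.sub_sub_self (Fintype.card_pos (α := F))] at h2
    exact hp.one_lt.ne' (Nat.dvd_one.1 h2)
  have hone : Ok.tG D F c = 1 := by
    have := pow_gcd_eq_one.2 ⟨hd2, hc1⟩
    rwa [hco.gcd_eq_one, pow_one] at this
  rw [hone, mul_one] at hud
  apply hxU
  rw [Subgroup.mem_subgroupOf, hU, Subgroup.mem_subgroupOf, hud]
  exact hu

/-- Every automorphism fixes `U` up to an inner automorphism. -/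
theorem exists_fix_U [Fintype F] (p : ℕ) [Fact p.Prime] [CharP F p] (S : Struct D C) (hN : okNeg D = true)
    (θ : MulAut ↥(D.group F)) : ∃ a : ↥(D.group F), Fixes (MulAut.conj a * θ) (D.posUnipotent F) := by
  obtain ⟨P, hP⟩ := exists_sylow_U (F := F) p S hN
  obtain ⟨k, hk⟩ := MulAction.exists_smul_eq ↥(D.group F) (θ • P) P
  refine ⟨k, fun x => ?_⟩
  have h : (MulAut.conj k * θ) • P = P := by rw [mul_smul, ← Sylow.smul_def]; exact hk
  have h' : (MulAut.conj k * θ) • (P : Subgroup ↥(D.group F)) = (P : Subgroup ↥(D.group F)) := by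
    rw [← Sylow.pointwise_smul_def, h]
  have hmem : ∀ y : ↥(D.group F), y ∈ (P : Subgroup ↥(D.group F)) ↔ (y : GL D.Idx F) ∈ D.posUnipotent F :=
    fun y => by rw [hP]; rfl
  rw [← hmem, ← hmem]
  conv_lhs => rw [← h', ← MulAut.smul_def]
  exact Subgroup.smul_mem_pointwise_smul_iff

/-- An element of `B` is one normalising `U`. -/
theorem mem_B_iff (S : Struct D C) (hN : okNeg D = true) (x : ↥(D.group F)) :
    (x : GL D.Idx F) ∈ D.borelSubgroup F ↔
      ∀ y : ↥(D.group F), (y : GL D.Idx F) ∈ D.posUnipotent F ↔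
        ((x * y * x⁻¹ : ↥(D.group F)) : GL D.Idx F) ∈ D.posUnipotent F := by
  constructor
  · intro hx y
    exact Subgroup.mem_normalizer_iff.1 ((sup_le Subgroup.le_normalizer S.diag_normalises_U :
      D.borelSubgroup F ≤ Subgroup.normalizer (D.posUnipotent F : Set (GL D.Idx F))) hx) _
  · intro h
    refine ChevFixed.mem_borel_of_normalizer S hN x.2 (Subgroup.mem_normalizer_iff.2 fun y => ⟨fun hy => ?_, fun hy => ?_⟩)
    · exact (h ⟨y, U_le_group S hy⟩).1 hy
    · have hy' : y ∈ D.group F := by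
        have := mul_mem (mul_mem (inv_mem x.2) (U_le_group S hy)) x.2
        simpa [mul_assoc] using this
      exact (h ⟨y, hy'⟩).2 hy

theorem fixes_B (S : Struct D C) (hN : okNeg D = true) {θ : MulAut ↥(D.group F)}
    (hU : Fixes θ (D.posUnipotent F)) : Fixes θ (D.borelSubgroup F) := by
  intro x
  rw [mem_B_iff S hN, mem_B_iff S hN]
  constructor
  · intro h y
    have := h (θ y)
    rwa [← map_inv, ← map_mul, ← map_mul, hU, hU] at this
  · intro h y
    obtain ⟨z, rfl⟩ := θ.surjective y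
    rw [← map_inv, ← map_mul, ← map_mul, hU, hU]
    exact h z

/-- `n₀` carries positive root subgroups to negative ones and conversely. -/
structure Opp (S : Struct D C) (F : Type*) [Field F] (n₀ : GL D.Idx F) (w : Equiv.Perm (Fin D.nroots)) : Prop where
  mem : n₀ ∈ D.monomialSubgroup F
  act : Act S.ok n₀ w
  opp : ∀ s : Fin D.nroots, (w s).val < D.nroots / 2 ↔ D.nroots / 2 ≤ s.val

theorem Opp.mem_group {S : Struct D C} {n₀ : GL D.Idx F} {w : Equiv.Perm (Fin D.nroots)} (O : Opp S F n₀ w) :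
    n₀ ∈ D.group F := S.mono_le_group O.mem

theorem Opp.map_U {S : Struct D C} {n₀ : GL D.Idx F} {w : Equiv.Perm (Fin D.nroots)} (O : Opp S F n₀ w)
    (z : GL D.Idx F) : n₀ * z * n₀⁻¹ ∈ D.negUnipotent F ↔ z ∈ D.posUnipotent F := by
  rw [← S.opp_map O.act O.opp]
  constructor
  · rintro ⟨y, hy, e⟩
    have : y = z := mul_left_cancel (mul_right_cancel (show n₀ * y * n₀⁻¹ = n₀ * z * n₀⁻¹ from e))
    exact this ▸ hy
  · intro hz
    exact ⟨z, hz, rfl⟩

theorem Opp.map_V {S : Struct D C} {n₀ : GL D.Idx F} {w : Equiv.Perm (Fin D.nroots)} (O : Opp S F n₀ w)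
    (z : GL D.Idx F) : n₀ * z * n₀⁻¹ ∈ D.posUnipotent F ↔ z ∈ D.negUnipotent F := by
  have hle : D.negUnipotent F ≤ (D.posUnipotent F).comap (MulAut.conj n₀).toMonoidHom := by
    refine (Subgroup.closure_le _).2 ?_
    rintro g ⟨r, t, hr, hg⟩
    rw [S.ok.eq_xG hg]
    show n₀ * S.ok.xG r t * n₀⁻¹ ∈ D.posUnipotent F
    have hr' := S.isNeg_iff.1 hr
    have hrn : r < D.nroots := hr.1
    obtain ⟨-, c, -, e⟩ := O.act ⟨r, hrn⟩
    rw [(e t).1]
    refine S.xG_mem_U ?_ (Fin.isLt _) _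
    by_contra hlt
    push Not at hlt
    have h1 := (O.opp _).1 hlt
    simp only at h1
    omega
  have hle' : D.posUnipotent F ≤ (D.negUnipotent F).map (MulAut.conj n₀).toMonoidHom := by
    refine (Subgroup.closure_le _).2 ?_
    rintro g ⟨r, t, hr, hg⟩
    obtain ⟨a, b⟩ := S.isPos_iff.1 hr
    rw [S.ok.eq_xG hg]
    obtain ⟨-, c, hc, e⟩ := O.act (w.symm ⟨r, b⟩)
    refine ⟨S.ok.xG (w.symm ⟨r, b⟩).val (c⁻¹ * t), Subgroup.subset_closure ⟨_, _, S.isNeg_iff.2 ?_, S.ok.val_xG _ _⟩, ?_⟩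
    · by_contra hlt
      push Not at hlt
      have := (O.opp _).2 hlt
      rw [Equiv.apply_symm_apply] at this
      simp only at this
      omega
    · show n₀ * S.ok.xG (w.symm ⟨r, b⟩).val (c⁻¹ * t) * n₀⁻¹ = S.ok.xG r t
      rw [(e _).1, Equiv.apply_symm_apply, ← mul_assoc, mul_inv_cancel₀ hc, one_mul]
  constructor
  · intro hz
    obtain ⟨y, hy, e⟩ := hle' hz
    have : y = z := mul_left_cancel (mul_right_cancel (show n₀ * y * n₀⁻¹ = n₀ * z * n₀⁻¹ from e))
    exact this ▸ hy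
  · exact fun hz => hle hz

/-- After fixing `U`, a further element of `B` makes the automorphism fix `V` too. -/
theorem exists_fix_V (S : Struct D C) (hN : okNeg D = true) {n₀ : GL D.Idx F} {w : Equiv.Perm (Fin D.nroots)}
    (O : Opp S F n₀ w) {θ : MulAut ↥(D.group F)} (hU : Fixes θ (D.posUnipotent F)) :
    ∃ a : ↥(D.group F), Fixes (MulAut.conj a * θ) (D.posUnipotent F) ∧ Fixes (MulAut.conj a * θ) (D.negUnipotent F) := by
  let N0 : ↥(D.group F) := ⟨n₀, O.mem_group⟩
  obtain ⟨b, hb, n, hn, L, hact, u, hu, he⟩ := S.normal_form hN (θ N0).2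
  let bG : ↥(D.group F) := ⟨b, S.borel_le_group hb⟩
  have hu0 : u ∈ D.posUnipotent F := S.UPsi_le _ hu
  have hUconj : Fixes (MulAut.conj bG⁻¹) (D.posUnipotent F) := by
    intro x
    have := (mem_B_iff S hN bG⁻¹).1 (inv_mem hb) x
    simpa using this.symm
  set η := MulAut.conj bG⁻¹ * θ with hη
  have hηU : Fixes η (D.posUnipotent F) := hUconj.mul hU
  have key : ∀ z : ↥(D.group F), (z : GL D.Idx F) ∈ D.negUnipotent F ↔
      n⁻¹ * ((η z : ↥(D.group F)) : GL D.Idx F) * n ∈ D.posUnipotent F := by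
    intro z
    have h1 : (z : GL D.Idx F) ∈ D.negUnipotent F ↔ ((N0⁻¹ * z * N0 : ↥(D.group F)) : GL D.Idx F) ∈ D.posUnipotent F := by
      rw [← O.map_U]
      simp [N0, mul_assoc]
    have h3 : ((θ N0⁻¹ * θ z * θ N0 : ↥(D.group F)) : GL D.Idx F) =
        u⁻¹ * (n⁻¹ * ((η z : ↥(D.group F)) : GL D.Idx F) * n) * u⁻¹⁻¹ := by
      simp only [hη, map_inv, MulAut.mul_apply, MulAut.inv_apply, MulAut.conj_apply, MulAut.conj_symm_apply,
        Subgroup.coe_mul, Subgroup.coe_inv, he, bG]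
      group
    rw [h1, ← hU, map_mul, map_mul, h3]
    exact (Subgroup.mem_normalizer_iff.1 (Subgroup.le_normalizer (inv_mem hu0)) _).symm
  have hpos : ∀ s : Fin D.nroots, D.nroots / 2 ≤ s.val → (S.wpL L s).val < D.nroots / 2 := by
    intro s hs
    by_contra hlt
    push Not at hlt
    obtain ⟨-, c, hc, e⟩ := hact s
    obtain ⟨z, hz⟩ := η.surjective ⟨S.ok.xG (S.wpL L s).val c, S.ok.xG_mem_group _ _⟩
    have hz1 : (z : GL D.Idx F) ∈ D.posUnipotent F := by
      rw [← hηU, hz]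
      exact S.xG_mem_U hlt (Fin.isLt _) _
    have hz2 : (z : GL D.Idx F) ∈ D.negUnipotent F := by
      rw [key, hz]
      have h1 := (e 1).1
      rw [mul_one] at h1
      simp only
      rw [← h1, show n⁻¹ * (n * S.ok.xG s.val 1 * n⁻¹) * n = S.ok.xG s.val 1 by group]
      exact S.xG_mem_U hs s.isLt 1
    have hzone : (z : GL D.Idx F) ∈ D.borelSubgroup F ⊓ D.negUnipotent F := Subgroup.mem_inf.2 ⟨S.B_le_of hz1, hz2⟩
    rw [S.B_inf_V hN, Subgroup.mem_bot] at hzone
    rw [show z = 1 from Subtype.ext hzone, map_one] at hz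
    exact hc (S.xG_eq_one (Fin.isLt _) (congrArg Subtype.val hz).symm)
  have hopp : ∀ s : Fin D.nroots, (S.wpL L s).val < D.nroots / 2 ↔ D.nroots / 2 ≤ s.val := by
    intro s
    refine ⟨fun h => ?_, hpos s⟩
    by_contra hs
    let P := Finset.univ.filter fun r : Fin D.nroots => D.nroots / 2 ≤ r.val
    let M := Finset.univ.filter fun r : Fin D.nroots => r.val < D.nroots / 2
    have hcard : M.card ≤ (P.image (S.wpL L)).card := by
      rw [Finset.card_image_of_injective _ (S.wpL L).injective]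
      have hh := S.hsum
      refine Finset.card_le_card_of_injOn (fun r => ⟨(D.nroots / 2 + r.val) % D.nroots, Nat.mod_lt _ (by have := r.isLt; omega)⟩) ?_ ?_
      · intro r hr
        simp only [M, P, Finset.coe_filter, Finset.mem_univ, true_and, Set.mem_setOf_eq] at hr ⊢
        rw [Nat.mod_eq_of_lt (by omega)]
        omega
      · intro r hr r' hr' e
        simp only [M, Finset.coe_filter, Finset.mem_univ, true_and, Set.mem_setOf_eq] at hr hr'
        have e' := congrArg Fin.val e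
        simp only at e'
        rw [Nat.mod_eq_of_lt (by omega), Nat.mod_eq_of_lt (by omega)] at e'
        exact Fin.ext (by omega)
    have hsub : P.image (S.wpL L) ⊆ M := by
      intro r hr
      obtain ⟨x, hx, rfl⟩ := Finset.mem_image.1 hr
      simp only [P, Finset.mem_filter, Finset.mem_univ, true_and] at hx
      simp [M, hpos x hx]
    have := Finset.eq_of_subset_of_card_le hsub hcard
    have hmem : S.wpL L s ∈ P.image (S.wpL L) := by rw [this]; simp [M, h]
    obtain ⟨x, hx, e⟩ := Finset.mem_image.1 hmem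
    simp only [P, Finset.mem_filter, Finset.mem_univ, true_and] at hx
    exact hs ((S.wpL L).injective e ▸ hx)
  have O' : Opp S F n (S.wpL L) := ⟨hn, hact, hopp⟩
  refine ⟨bG⁻¹, hηU, fun z => ?_⟩
  rw [key z]
  rw [← O'.map_U]
  simp [hη, mul_assoc]

/-- An element of `VH` is one normalising `V`. -/
theorem mem_VH_iff (S : Struct D C) (hN : okNeg D = true) {n₀ : GL D.Idx F} {w : Equiv.Perm (Fin D.nroots)}
    (O : Opp S F n₀ w) (x : ↥(D.group F)) :
    (x : GL D.Idx F) ∈ D.negUnipotent F ⊔ D.diagonalSubgroup F ↔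
      ∀ y : ↥(D.group F), (y : GL D.Idx F) ∈ D.negUnipotent F ↔
        ((x * y * x⁻¹ : ↥(D.group F)) : GL D.Idx F) ∈ D.negUnipotent F := by
  constructor
  · intro hx y
    exact Subgroup.mem_normalizer_iff.1 ((sup_le Subgroup.le_normalizer S.diag_normalises_V :
      D.negUnipotent F ⊔ D.diagonalSubgroup F ≤ Subgroup.normalizer (D.negUnipotent F : Set (GL D.Idx F))) hx) _
  · intro h
    let N0 : ↥(D.group F) := ⟨n₀, O.mem_group⟩
    have hb : ((N0⁻¹ * x * N0 : ↥(D.group F)) : GL D.Idx F) ∈ D.borelSubgroup F := by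
      rw [mem_B_iff S hN]
      intro y
      rw [← O.map_U, ← O.map_U]
      have := h (N0 * y * N0⁻¹)
      simp only [Subgroup.coe_mul, Subgroup.coe_inv, N0] at this ⊢
      rw [this]
      simp [mul_assoc]
    obtain ⟨u, hu, d, hd, e⟩ := S.borel_decomp hb
    simp only [Subgroup.coe_mul, Subgroup.coe_inv, N0] at e
    have hx : (x : GL D.Idx F) = n₀ * u * n₀⁻¹ * (n₀ * d * n₀⁻¹) := by
      calc (x : GL D.Idx F) = n₀ * (n₀⁻¹ * x * n₀) * n₀⁻¹ := by group
        _ = _ := by rw [e]; group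
    rw [hx]
    exact mul_mem (Subgroup.mem_sup_left ((O.map_U _).2 hu)) (Subgroup.mem_sup_right (S.norm_diag O.mem hd))

theorem fixes_VH (S : Struct D C) (hN : okNeg D = true) {n₀ : GL D.Idx F} {w : Equiv.Perm (Fin D.nroots)}
    (O : Opp S F n₀ w) {θ : MulAut ↥(D.group F)} (hV : Fixes θ (D.negUnipotent F)) :
    Fixes θ (D.negUnipotent F ⊔ D.diagonalSubgroup F) := by
  intro x
  rw [mem_VH_iff S hN O, mem_VH_iff S hN O]
  constructor
  · intro h y
    have := h (θ y)
    rwa [← map_inv, ← map_mul, ← map_mul, hV, hV] at this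
  · intro h y
    obtain ⟨z, rfl⟩ := θ.surjective y
    rw [← map_inv, ← map_mul, ← map_mul, hV, hV]
    exact h z

theorem fixes_H (S : Struct D C) (hN : okNeg D = true) {n₀ : GL D.Idx F} {w : Equiv.Perm (Fin D.nroots)}
    (O : Opp S F n₀ w) {θ : MulAut ↥(D.group F)} (hU : Fixes θ (D.posUnipotent F))
    (hV : Fixes θ (D.negUnipotent F)) : Fixes θ (D.diagonalSubgroup F) := by
  intro x
  rw [← S.B_inf_VH hN, Subgroup.mem_inf, Subgroup.mem_inf, fixes_B S hN hU, fixes_VH S hN O hV]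

end Cfsg.Lib.Known.ChevAut
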