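import Cfsg.Agent.Known.ChevAut.Param
import Cfsg.Agent.Chev.Parab
import Cfsg.Prelude.Def_ChevAutomorphisms

/-! Every automorphism is inner, diagonal, graph and field. -/

set_option autoImplicit false

open Cfsg.Lie Cfsg.Lib.Chev

namespace Cfsg.Lib.Known.ChevAut

variable {D : ChevalleyDatum} {C : Cert} {L : List ℕ} {T : List (List ℤ)} {F : Type*} [Field F]

theorem act_pow (S : Struct D C) {x : GL D.Idx F} {w : Equiv.Perm (Fin D.nroots)} (h : Act S.ok x w) :
    ∀ k : ℕ, Act S.ok (x ^ k) (w ^ k)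
  | 0 => by simpa using S.act_one (F := F)
  | k + 1 => by rw [pow_succ, pow_succ]; exact S.act_mul (act_pow S h k) h

theorem diag_iff_of_act (S : Struct D C) {x : GL D.Idx F} (hx : x ∈ D.monomialSubgroup F)
    {w : Equiv.Perm (Fin D.nroots)} (h : Act S.ok x w) : x ∈ D.diagonalSubgroup F ↔ w = 1 := by
  obtain ⟨L, hL, hiff⟩ := S.exists_act hx
  rw [S.act_unique h hL, hiff]

theorem act_gn (S : Struct D C) (i : Fin D.rank) {t : F} (ht : t ≠ 0) :
    (gn S i t : GL D.Idx F) ∈ D.monomialSubgroup F ∧ Act S.ok (gn S i t : GL D.Idx F) (S.wp i) := by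
  show S.ok.nG (D.simple i) t ∈ _ ∧ Act S.ok (S.ok.nG (D.simple i) t) _
  rw [S.ok.nG_eq_hG_mul i.isLt ht]
  have hd := S.hG_mem_diag (F := F) i.isLt ht
  exact ⟨mul_mem ((le_sup_left : D.diagonalSubgroup F ≤ D.monomialSubgroup F) hd) (S.nG_mem_mono i),
    by simpa using S.act_mul (S.act_diag hd) (S.act_nG (F := F) i)⟩

theorem bonds_cases (hT : Tabs D C L T) {i j : Fin D.rank} (hne : i ≠ j) : edgeAt D i j = true := by
  have h := kall_krange (kall_krange hT.edge i.val i.isLt) j.val j.isLt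
  simp only [Bool.or_eq_true, Nat.beq_eq] at h
  exact h.resolve_left fun e => hne (Fin.ext e)

theorem bonds_le (hT : Tabs D C L T) {i j : Fin D.rank} (hne : i ≠ j) :
    D.bonds i j = 0 ∨ D.bonds i j = 1 ∨ D.bonds i j = 2 ∨ D.bonds i j = 3 := by
  have h := bonds_cases hT hne
  simp only [edgeAt, Bool.or_eq_true, Bool.and_eq_true, decide_eq_true_eq] at h
  unfold ChevalleyDatum.bonds
  rcases h with ((⟨a, b⟩ | ⟨a, b, -⟩) | ⟨a, b | b, -⟩) | ⟨b, a | a, -⟩ <;> simp [a, b]

theorem orderOf_wp_eq (hT : Tabs D C L T) {θ : MulAut ↥(D.group F)} {π : Equiv.Perm (Fin D.rank)}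
    {f g : Fin D.rank → F → F} (P : Param hT.str θ π f g) (hH : Fixes θ (D.diagonalSubgroup F))
    (i j : Fin D.rank) :
    orderOf (hT.str.wp (π i) * hT.str.wp (π j)) = orderOf (hT.str.wp i * hT.str.wp j) := by
  have S := hT.str
  rw [orderOf_eq_orderOf_iff]
  intro k
  obtain ⟨m1, a1⟩ := act_gn S i (one_ne_zero : (1 : F) ≠ 0)
  obtain ⟨m2, a2⟩ := act_gn S j (one_ne_zero : (1 : F) ≠ 0)
  obtain ⟨m3, a3⟩ := act_gn S (π i) (P.ne_zero i (one_ne_zero : (1 : F) ≠ 0))
  obtain ⟨m4, a4⟩ := act_gn S (π j) (P.ne_zero j (one_ne_zero : (1 : F) ≠ 0))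
  have h := hH ((gn S i 1 * gn S j 1) ^ k)
  rw [map_pow, map_mul, P.map_gn hT.neg i one_ne_zero, P.map_gn hT.neg j one_ne_zero] at h
  simp only [SubmonoidClass.coe_pow, Subgroup.coe_mul] at h
  rw [diag_iff_of_act S (pow_mem (mul_mem m1 m2) k) (act_pow S (S.act_mul a1 a2) k),
    diag_iff_of_act S (pow_mem (mul_mem m3 m4) k) (act_pow S (S.act_mul a3 a4) k)] at h
  exact h

theorem isDiagramSymmetry (hT : Tabs D C L T) {θ : MulAut ↥(D.group F)} {π : Equiv.Perm (Fin D.rank)}
    {f g : Fin D.rank → F → F} (P : Param hT.str θ π f g) (hH : Fixes θ (D.diagonalSubgroup F)) :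
    D.IsDiagramSymmetry π := by
  intro i j hne
  have key : ∀ a b : Fin D.rank, a ≠ b →
      orderOf (hT.str.wp a * hT.str.wp b) = [2, 3, 4, 6].getD (D.bonds a b).natAbs 0 := by
    intro a b hab
    have h := kall_krange (kall_krange hT.bonds a.val a.isLt) b.val b.isLt
    simp only [Bool.or_eq_true, Nat.beq_eq] at h
    exact hT.str.orderOf_wp a b (h.resolve_left fun e => hab (Fin.ext e))
  have hne' : π i ≠ π j := fun e => hne (π.injective e)
  have h := orderOf_wp_eq hT P hH i j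
  rw [key _ _ hne', key _ _ hne] at h
  rcases bonds_le hT hne' with a | a | a | a <;> rcases bonds_le hT hne with b | b | b | b <;>
    rw [a, b] at h <;> simp_all

/-- The exponent of the graph part on node `i`. -/
noncomputable def expo (D : ChevalleyDatum) (F : Type*) [Field F] (π : Equiv.Perm (Fin D.rank))
    (i : Fin D.rank) : ℕ := D.graphExp (ringChar F) i (π i)

theorem pow_eq_char [Finite F] {m : ℕ} (hm : m = 2 ∨ m = 3)
    (h : ∀ a b : F, (a + b) ^ m = a ^ m + b ^ m) : ∀ t : F, t ^ m = t ^ ringChar F := by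
  intro t
  have h1 := h 1 1
  by_cases h2 : (2 : F) = 0
  · have hc : ringChar F = 2 := by
      have hd : ringChar F ∣ 2 := (ringChar.spec F 2).1 (by exact_mod_cast h2)
      exact (Nat.dvd_prime Nat.prime_two).1 hd |>.resolve_left (CharP.ringChar_ne_one)
    rw [hc]
    rcases hm with rfl | rfl
    · rfl
    · have h3 := h t 1
      have h4 : t * (t + 1) = 0 := by linear_combination h3 - (t ^ 2 + t) * h2
      rcases mul_eq_zero.1 h4 with e | e
      · rw [e]; ring
      · have e' : t = 1 := by linear_combination e - h2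
        rw [e']; ring
  · rcases hm with rfl | rfl
    · exact absurd (by linear_combination h1) h2
    · have h3 : (2 : F) * 3 = 0 := by linear_combination h1
      have h3' := (mul_eq_zero.1 h3).resolve_left h2
      have hd : ringChar F ∣ 3 := (ringChar.spec F 3).1 (by exact_mod_cast h3')
      rw [(Nat.dvd_prime Nat.prime_three).1 hd |>.resolve_left (CharP.ringChar_ne_one)]

theorem pow_char_bijective [Finite F] : Function.Bijective fun t : F => t ^ ringChar F := by
  obtain ⟨p, hp⟩ := CharP.exists F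
  haveI := hp
  haveI : Fact p.Prime := ⟨CharP.char_is_prime F p⟩
  rw [ringChar.eq F p]
  exact Finite.injective_iff_bijective.1 fun a b e => (frobenius F p).injective e

theorem sigma_edge [Finite F] (hT : Tabs D C L T) {π : Equiv.Perm (Fin D.rank)} (hπ : D.IsDiagramSymmetry π)
    {σ : Fin D.rank → (F ≃+* F)}
    (hσ : ∀ (i j : Fin D.rank) (a : F), a ≠ 0 →
      σ j a ^ D.cartan i (D.simple j) = σ i a ^ D.cartan (π i) (D.simple (π j)))
    {i j : Fin D.rank} (hne : i ≠ j) (hb : D.bonds i j ≠ 0) (a : F) :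
    σ i a ^ expo D F π j = σ j a ^ expo D F π i := by
  have hpos : ∀ k, expo D F π k ≠ 0 := fun k => by
    unfold expo ChevalleyDatum.graphExp
    split_ifs
    · exact (CharP.char_is_prime F (ringChar F)).ne_zero
    · exact one_ne_zero
  rcases eq_or_ne a 0 with rfl | ha
  · simp [hpos]
  have h1 := hσ i j a ha
  have h2 := hσ j i a ha
  have hb' : D.bonds (π i) (π j) ≠ 0 := by rw [hπ i j hne]; exact hb
  have hbb := hπ i j hne
  have e1 := bonds_cases hT hne
  have e2 := bonds_cases hT (fun e => hne (π.injective e) : π i ≠ π j)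
  simp only [edgeAt, Bool.or_eq_true, Bool.and_eq_true, decide_eq_true_eq, beq_iff_eq, Bool.not_eq_true'] at e1 e2
  have hmult : ∀ {k l : Fin D.rank} {m : ℕ}, (∀ b : F, b ≠ 0 → σ l b = σ k b ^ m) → (m = 2 ∨ m = 3) →
      σ l a = σ k a ^ ringChar F := by
    intro k l m h hm
    have h' : ∀ b : F, σ l b = σ k b ^ m := fun b => by
      rcases eq_or_ne b 0 with rfl | hb0
      · rcases hm with rfl | rfl <;> simp
      · exact h b hb0
    rw [h' a]
    refine pow_eq_char hm (fun x y => ?_) _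
    obtain ⟨x', rfl⟩ := (σ k).surjective x
    obtain ⟨y', rfl⟩ := (σ k).surjective y
    rw [← map_add, ← h', ← h', ← h', map_add]
  unfold ChevalleyDatum.bonds at hb hb' hbb
  unfold expo ChevalleyDatum.graphExp
  rcases e1 with ((⟨p, q⟩ | ⟨p, q, l1⟩) | ⟨p, q, l1, l2⟩) | ⟨q, p, l1, l2⟩
  · simp [p] at hb
  · rcases e2 with ((⟨p', q'⟩ | ⟨p', q', l1'⟩) | ⟨p', q', l1', l2'⟩) | ⟨q', p', l1', l2'⟩
    · simp [p'] at hb'
    · rw [p, p', zpow_neg_one, zpow_neg_one, inv_inj] at h1
      rw [l1, l1', h1]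
    · rcases q' with q' | q' <;> simp [p, q, p', q'] at hbb
    · rcases p' with p' | p' <;> simp [p, q, p', q'] at hbb
  · rcases e2 with ((⟨p', q'⟩ | ⟨p', q', l1'⟩) | ⟨p', q', l1', l2'⟩) | ⟨q', p', l1', l2'⟩
    · simp [p'] at hb'
    · rcases q with q | q <;> simp [p, q, p', q'] at hbb
    · rw [p, p', zpow_neg_one, zpow_neg_one, inv_inj] at h1
      simp [l1, l2, l1', l2', h1]
    · simp only [l1, l2, l1', l2', Bool.not_true, Bool.not_false, Bool.and_true, Bool.and_false, if_true,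
        Bool.false_eq_true, if_false, pow_one]
      have key : ∀ b : F, b ≠ 0 → ∀ m : ℕ, σ j b ^ (-1 : ℤ) = σ i b ^ (-(m : ℤ)) → σ j b = σ i b ^ m := by
        intro b _ m h
        rwa [zpow_neg_one, zpow_neg, inv_inj, zpow_natCast] at h
      rcases p' with p' | p'
      · exact (hmult (m := 2) (fun b hb0 => key b hb0 2 (by
          have := hσ i j b hb0; rw [p, p'] at this; exact_mod_cast this)) (Or.inl rfl)).symm
      · exact (hmult (m := 3) (fun b hb0 => key b hb0 3 (by
          have := hσ i j b hb0; rw [p, p'] at this; exact_mod_cast this)) (Or.inr rfl)).symm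
  · rcases e2 with ((⟨p', q'⟩ | ⟨p', q', l1'⟩) | ⟨p', q', l1', l2'⟩) | ⟨q', p', l1', l2'⟩
    · simp [p'] at hb'
    · rcases p with p | p <;> simp [p, q, p', q'] at hbb
    · simp only [l1, l2, l1', l2', Bool.not_true, Bool.not_false, Bool.and_true, Bool.and_false, if_true,
        Bool.false_eq_true, if_false, pow_one]
      have key : ∀ b : F, b ≠ 0 → ∀ m : ℕ, σ i b ^ (-1 : ℤ) = σ j b ^ (-(m : ℤ)) → σ i b = σ j b ^ m := by
        intro b _ m h
        rwa [zpow_neg_one, zpow_neg, inv_inj, zpow_natCast] at h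
      rcases q' with q' | q'
      · exact hmult (m := 2) (fun b hb0 => key b hb0 2 (by
          have := hσ j i b hb0; rw [q, q'] at this; exact_mod_cast this)) (Or.inl rfl)
      · exact hmult (m := 3) (fun b hb0 => key b hb0 3 (by
          have := hσ j i b hb0; rw [q, q'] at this; exact_mod_cast this)) (Or.inr rfl)
    · rw [q, q', zpow_neg_one, zpow_neg_one, inv_inj] at h2
      simp [l1, l2, l1', l2', h2]

theorem exists_common [Finite F] (hT : Tabs D C L T) {π : Equiv.Perm (Fin D.rank)} (hπ : D.IsDiagramSymmetry π)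
    {σ : Fin D.rank → (F ≃+* F)}
    (hσ : ∀ (i j : Fin D.rank) (a : F), a ≠ 0 →
      σ j a ^ D.cartan i (D.simple j) = σ i a ^ D.cartan (π i) (D.simple (π j))) :
    ∃ σ₀ : F ≃+* F, ∀ i a, σ i a = σ₀ a ^ expo D F π i := by
  obtain ⟨p, hp⟩ := CharP.exists F
  haveI := hp
  haveI : Fact p.Prime := ⟨CharP.char_is_prime F p⟩
  have hρ : ∀ i, ∃ ρ : F ≃+* F, ∀ a, σ i a = ρ a ^ expo D F π i := fun i => by
    by_cases he : expo D F π i = 1
    · exact ⟨σ i, fun a => by rw [he, pow_one]⟩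
    · have he' : expo D F π i = p := by
        unfold expo ChevalleyDatum.graphExp at he ⊢
        split_ifs at he ⊢
        · exact ringChar.eq F p
        · exact absurd rfl he
      refine ⟨(σ i).trans (frobeniusEquiv F p).symm, fun a => ?_⟩
      rw [he', RingEquiv.trans_apply, frobeniusEquiv_symm_pow_p]
  choose ρ hρ using hρ
  have hedge : ∀ i j, D.bonds i.val j.val ≠ 0 → ρ i = ρ j := by
    intro i j hb
    rcases eq_or_ne i j with rfl | hne
    · rfl
    refine RingEquiv.ext fun a => ?_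
    have h := sigma_edge hT hπ hσ hne hb a
    rw [hρ, hρ, ← pow_mul, ← pow_mul, mul_comm] at h
    have hinj : ∀ k, Function.Injective fun t : F => t ^ expo D F π k := fun k => by
      unfold expo ChevalleyDatum.graphExp
      split_ifs
      · exact pow_char_bijective.1
      · intro x y e; simpa using e
    rw [pow_mul, pow_mul] at h
    first | exact hinj i (hinj j h) | exact hinj j (hinj i h)
  rcases Nat.eq_zero_or_pos D.rank with h0 | h0
  · exact ⟨RingEquiv.refl F, fun i => absurd i.isLt (by omega)⟩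
  refine ⟨ρ ⟨0, h0⟩, fun i a => ?_⟩
  have hgrow : ∀ k, ∀ j ∈ (growNodes D)^[k] [0], ∃ hj : j < D.rank, ρ ⟨j, hj⟩ = ρ ⟨0, h0⟩ := by
    intro k
    induction k with
    | zero => intro j hj; simp at hj; subst hj; exact ⟨h0, rfl⟩
    | succ k ih =>
      intro j hj
      rw [Function.iterate_succ_apply'] at hj
      simp only [growNodes, List.mem_filter, List.mem_range, Bool.or_eq_true, List.any_eq_true,
        decide_eq_true_eq, List.elem_eq_mem] at hj
      obtain ⟨hj1, hj2 | ⟨i, hi, hb⟩⟩ := hj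
      · exact ih j hj2
      · obtain ⟨hi', e⟩ := ih i hi
        exact ⟨hj1, (hedge ⟨i, hi'⟩ ⟨j, hj1⟩ hb).symm.trans e⟩
  have := kall_krange hT.conn i.val i.isLt
  obtain ⟨_, e⟩ := hgrow D.rank i.val (by simpa using this)
  rw [hρ, ← e]

/-- The character with given values on the fundamental roots. -/
noncomputable def chiOf (D : ChevalleyDatum) (T : List (List ℤ)) (c : Fin D.rank → Fˣ) (r : ℕ) : Fˣ :=
  ∏ i, c i ^ htAt T r i.val

theorem chiOf_isRootCharacter (hT : okHt D T = true) (c : Fin D.rank → Fˣ) :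
    D.IsRootCharacter (chiOf D T c) := by
  refine ⟨fun r hr => ?_, fun r s k hr hs hk => ?_⟩
  · rw [chiOf, chiOf, ← Finset.prod_inv_distrib]
    refine Finset.prod_congr rfl fun i _ => ?_
    rw [(ht_row hT hr i.isLt).1, zpow_neg]
  · rw [chiOf, chiOf, chiOf, ← Finset.prod_mul_distrib]
    refine Finset.prod_congr rfl fun i _ => ?_
    rw [ht_chain hT hr (k := 0) hk i.isLt, ← zpow_add]
    simp

theorem chiOf_simple (hT : okHt D T = true) (c : Fin D.rank → Fˣ) (i : Fin D.rank) :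
    chiOf D T c (D.simple i) = c i := by
  rw [chiOf, Finset.prod_eq_single i]
  · rw [ht_simple hT i.isLt i.isLt, if_pos rfl, zpow_one]
  · intro j _ hj
    rw [ht_simple hT i.isLt j.isLt, if_neg fun e => hj (Fin.ext e).symm, zpow_zero]
  · simp

theorem exists_diagAut (S : Struct D C) (hc : okChar D = true) {χ : ℕ → Fˣ} (hχ : D.IsRootCharacter χ) :
    ∃ d : MulAut ↥(D.group F), D.IsDiagonalAut d ∧
      ∀ r (hr : r < D.nroots) (t : F), d ⟨S.ok.xG r t, S.ok.xG_mem_group _ _⟩ =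
        ⟨S.ok.xG r ((χ r : F) * t), S.ok.xG_mem_group _ _⟩ := by
  have hinv := charDiag_mul_inv (F := F) (D := D) χ
  have hinv' : D.charDiag F (fun s => (χ s)⁻¹) * D.charDiag F χ = 1 := by
    have := charDiag_mul_inv (F := F) (D := D) (fun s => (χ s)⁻¹)
    simpa using this
  let δ : GL D.Idx F := ⟨D.charDiag F χ, D.charDiag F (fun s => (χ s)⁻¹), hinv, hinv'⟩
  have hδ : ∀ r, r < D.nroots → ∀ t : F, δ * S.ok.xG r t * δ⁻¹ = S.ok.xG r ((χ r : F) * t) := by
    intro r hr t
    apply Units.ext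
    simp only [Units.val_mul, Ok.val_xG]
    exact charDiag_conj_x S.ok hc hχ hr t
  have hmap : (D.group F).map (MulAut.conj δ).toMonoidHom = D.group F := by
    apply le_antisymm
    · rw [Subgroup.map_le_iff_le_comap]
      refine (Subgroup.closure_le _).2 ?_
      rintro g ⟨r, t, hg⟩
      have hx : (g : Matrix D.Idx D.Idx F) = D.x F r t := by simpa [ChevalleyDatum.x] using hg
      rw [S.ok.eq_xG hx]
      show δ * S.ok.xG r t * δ⁻¹ ∈ D.group F
      rw [hδ r r.isLt]
      exact S.ok.xG_mem_group _ _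
    · refine (Subgroup.closure_le _).2 ?_
      rintro g ⟨r, t, hg⟩
      have hx : (g : Matrix D.Idx D.Idx F) = D.x F r t := by simpa [ChevalleyDatum.x] using hg
      refine ⟨S.ok.xG r ((χ r : F)⁻¹ * t), S.ok.xG_mem_group _ _, ?_⟩
      show δ * S.ok.xG r ((χ r : F)⁻¹ * t) * δ⁻¹ = g
      rw [hδ r r.isLt, S.ok.eq_xG hx, ← mul_assoc, mul_inv_cancel₀ (χ r.val).ne_zero, one_mul]
  let d : MulAut ↥(D.group F) :=
    ((D.group F).equivMapOfInjective (MulAut.conj δ).toMonoidHom (MulAut.conj δ).injective).trans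
      (MulEquiv.subgroupCongr hmap)
  exact ⟨d, ⟨χ, hχ, fun g => rfl⟩, fun r hr t => Subtype.ext (hδ r hr t)⟩

theorem decomp_fixing [Finite F] (hT : Tabs D C L T) {θ : MulAut ↥(D.group F)}
    (hU : Fixes θ (D.posUnipotent F)) (hV : Fixes θ (D.negUnipotent F)) :
    ∃ d g f : MulAut ↥(D.group F), D.IsDiagonalAut d ∧ D.IsGraphAut g ∧ D.IsFieldAut f ∧ θ = d * g * f ∧
      g = d⁻¹ * θ * f⁻¹ := by
  have S := hT.str
  obtain ⟨n₀, w, O, -⟩ := exists_opp_simple (F := F) hT
  obtain ⟨π, f', g', P⟩ := exists_param hT hU hV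
  have hπ := isDiagramSymmetry hT P (fixes_H S hT.neg O hU hV)
  obtain ⟨c, σ, hf, hg, hσ⟩ := P.exists_sigma hT.neg
  obtain ⟨σ₀, hσ₀⟩ := exists_common hT hπ hσ
  obtain ⟨d, hd, hdx⟩ := exists_diagAut S hT.chr (chiOf_isRootCharacter hT.ht fun j => c (π.symm j))
  obtain ⟨φ, hφ⟩ := S.ok.exists_fieldAut σ₀
  refine ⟨d, d⁻¹ * θ * φ⁻¹, φ, hd, ⟨π, hπ, fun x i t => ⟨fun hx => ?_, fun hx => ?_⟩⟩, ⟨σ₀, hφ⟩, by group, rfl⟩
  · have e0 : φ (gp S i (σ₀.symm t)) = x := by
      refine Subtype.ext (Units.ext ?_)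
      rw [hφ _ _ _ (simple_lt S i) (S.ok.val_xG _ _), RingEquiv.apply_symm_apply, hx]
    have e1 : θ (gp S i (σ₀.symm t)) = d (gp S (π i) (t ^ expo D F π i)) := by
      rw [P.pos, hf, hσ₀, RingEquiv.apply_symm_apply, gp, gp, hdx _ (simple_lt S (π i))]
      refine Subtype.ext (congrArg _ ?_)
      rw [chiOf_simple hT.ht, Equiv.symm_apply_apply]
    rw [← e0, MulAut.mul_apply, MulAut.mul_apply, MulAut.inv_apply_self, e1, MulAut.inv_apply_self]
    exact S.ok.val_xG _ _
  · have e0 : φ (gm S i (σ₀.symm t)) = x := by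
      refine Subtype.ext (Units.ext ?_)
      rw [hφ _ _ _ (negSimple_lt S i) (S.ok.val_xG _ _), RingEquiv.apply_symm_apply, hx]
    have e1 : θ (gm S i (σ₀.symm t)) = d (gm S (π i) (t ^ expo D F π i)) := by
      rw [P.negEq, hg, hσ₀, RingEquiv.apply_symm_apply, gm, gm, hdx _ (negSimple_lt S (π i))]
      refine Subtype.ext (congrArg _ ?_)
      rw [(chiOf_isRootCharacter hT.ht _).1 _ (simple_lt S (π i)), chiOf_simple hT.ht, Equiv.symm_apply_apply]
    rw [← e0, MulAut.mul_apply, MulAut.mul_apply, MulAut.inv_apply_self, e1, MulAut.inv_apply_self]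
    exact S.ok.val_xG _ _

theorem decomp [Finite F] (hT : Tabs D C L T) (θ : MulAut ↥(D.group F)) :
    ∃ a : ↥(D.group F), ∃ d g f : MulAut ↥(D.group F),
      D.IsDiagonalAut d ∧ D.IsGraphAut g ∧ D.IsFieldAut f ∧ θ = MulAut.conj a * d * g * f := by
  obtain ⟨p, hp⟩ := CharP.exists F
  haveI := hp
  haveI : Fact p.Prime := ⟨CharP.char_is_prime F p⟩
  haveI := Fintype.ofFinite F
  obtain ⟨n₀, w, O, -⟩ := exists_opp_simple (F := F) hT
  obtain ⟨a, ha⟩ := exists_fix_U p hT.str hT.neg θ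
  obtain ⟨b, hb1, hb2⟩ := exists_fix_V hT.str hT.neg O ha
  obtain ⟨d, g, f, hd, hg, hf, e, -⟩ := decomp_fixing hT hb1 hb2
  refine ⟨a⁻¹ * b⁻¹, d, g, f, hd, hg, hf, ?_⟩
  rw [map_mul, map_inv, map_inv, mul_assoc (MulAut.conj a)⁻¹, mul_assoc, mul_assoc, mul_assoc]
  rw [show d * (g * f) = d * g * f by group, ← e]
  group

end Cfsg.Lib.Known.ChevAut
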