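import Cfsg.Agent.Chev.Opp
import Cfsg.Agent.Chev.Cox
import Cfsg.Agent.Chev.Ht
import Cfsg.Agent.Known.ChevChar

/-! Finite checks on the tables used for the automorphism theorem. -/

set_option autoImplicit false

open Cfsg.Lie Cfsg.Lib.Chev

namespace Cfsg.Lib.Known.ChevAut

/-- The word carries negatives of fundamental roots to fundamental roots. -/
noncomputable def okOppSimple (C : Cert) (L : List ℕ) : Bool :=
  kall (fun i => !kall (fun j => !Nat.beq (C.wWord L (C.neg (C.sr i))) (C.sr j)) (krange 0 C.l)) (krange 0 C.l)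

/-- A fundamental root and the negative of another have no commutator terms. -/
noncomputable def okCommute (D : ChevalleyDatum) : Bool :=
  kall (fun i => kall (fun j => Nat.beq i j || (D.commTerms (D.simple i) (D.neg (D.simple j))).isEmpty)
    (krange 0 D.rank)) (krange 0 D.rank)

/-- The Cartan integers of two nodes and their lengths. -/
noncomputable def edgeAt (D : ChevalleyDatum) (i j : ℕ) : Bool :=
  let a := D.cartan i (D.simple j)
  let b := D.cartan j (D.simple i)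
  (decide (a = 0) && decide (b = 0)) ||
    (decide (a = -1) && (decide (b = -1) && (D.isLong (D.simple i) == D.isLong (D.simple j)))) ||
    (decide (a = -1) && ((decide (b = -2) || decide (b = -3)) &&
      (D.isLong (D.simple i) && !D.isLong (D.simple j)))) ||
    (decide (b = -1) && ((decide (a = -2) || decide (a = -3)) &&
      (D.isLong (D.simple j) && !D.isLong (D.simple i))))

/-- All pairs of nodes pass `edgeAt`. -/
noncomputable def okEdge (D : ChevalleyDatum) : Bool :=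
  kall (fun i => kall (fun j => Nat.beq i j || edgeAt D i j) (krange 0 D.rank)) (krange 0 D.rank)

/-- The order of the product of two reflections is given by the number of bonds. -/
noncomputable def okBonds (D : ChevalleyDatum) (C : Cert) : Bool :=
  kall (fun i => kall (fun j => Nat.beq i j ||
    C.okCoxAt i j ([2, 3, 4, 6].getD (D.bonds i j).natAbs 0)) (krange 0 D.rank)) (krange 0 D.rank)

/-- The nodes adjoined to a set by the bonds. -/
noncomputable def growNodes (D : ChevalleyDatum) (A : List ℕ) : List ℕ :=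
  (List.range D.rank).filter fun j => A.elem j || A.any fun i => decide (D.bonds i j ≠ 0)

/-- The diagram is connected. -/
noncomputable def okConnected (D : ChevalleyDatum) : Bool :=
  kall (fun j => ((growNodes D)^[D.rank] [0]).elem j) (krange 0 D.rank)

/-- The checks bundled. -/
structure Tabs (D : ChevalleyDatum) (C : Cert) (L : List ℕ) (T : List (List ℤ)) : Prop where
  str : Struct D C
  neg : okNeg D = true
  opp : C.okOpp L = true
  oppSimple : okOppSimple C L = true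
  ht : okHt D T = true
  chr : okChar D = true
  commute : okCommute D = true
  edge : okEdge D = true
  bonds : okBonds D C = true
  conn : okConnected D = true

theorem more_G2 : okOppSimple G2.cert [0, 1, 0, 1, 0, 1] = true ∧ okCommute chevG2 = true ∧
    okEdge chevG2 = true ∧ okBonds chevG2 G2.cert = true ∧ okConnected chevG2 = true := by
  refine ⟨?_, ?_, ?_, ?_, ?_⟩ <;> decide +kernel

theorem more_B2 : okOppSimple B2.cert [0, 1, 0, 1] = true ∧ okCommute chevB2 = true ∧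
    okEdge chevB2 = true ∧ okBonds chevB2 B2.cert = true ∧ okConnected chevB2 = true := by
  refine ⟨?_, ?_, ?_, ?_, ?_⟩ <;> decide +kernel

theorem more_D4 : okOppSimple D4.cert [0, 1, 0, 2, 1, 0, 3, 1, 0, 2, 1, 3] = true ∧ okCommute chevD4 = true ∧
    okEdge chevD4 = true ∧ okBonds chevD4 D4.cert = true ∧ okConnected chevD4 = true := by
  refine ⟨?_, ?_, ?_, ?_, ?_⟩ <;> decide +kernel

theorem more_F4 : okOppSimple F4.cert [0, 1, 0, 2, 1, 0, 2, 1, 2, 3, 2, 1, 0, 2, 1, 2, 3, 2, 1, 0, 2, 1, 2, 3] = true ∧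
    okCommute chevF4 = true ∧ okEdge chevF4 = true ∧ okBonds chevF4 F4.cert = true ∧ okConnected chevF4 = true := by
  refine ⟨?_, ?_, ?_, ?_, ?_⟩ <;> decide +kernel

theorem more_E6 : okOppSimple E6.cert [0, 1, 2, 0, 3, 1, 2, 0, 3, 2, 4, 3, 1, 2, 0, 3, 2, 4, 3, 1, 5, 4, 3, 1, 2, 0, 3, 2, 4, 3, 1, 5, 4, 3, 2, 0] = true ∧
    okCommute chevE6 = true ∧ okEdge chevE6 = true ∧ okBonds chevE6 E6.cert = true ∧ okConnected chevE6 = true := by
  refine ⟨?_, ?_, ?_, ?_, ?_⟩ <;> decide +kernel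

theorem more_E7 : okOppSimple E7.cert [0, 1, 2, 0, 3, 1, 2, 0, 3, 2, 4, 3, 1, 2, 0, 3, 2, 4, 3, 1, 5, 4, 3, 1, 2, 0, 3, 2, 4, 3, 1, 5, 4, 3, 2, 0, 6, 5, 4, 3, 1, 2, 0, 3, 2, 4, 3, 1, 5, 4, 3, 2, 0, 6, 5, 4, 3, 1, 2, 3, 4, 5, 6] = true ∧
    okCommute chevE7 = true ∧ okEdge chevE7 = true ∧ okBonds chevE7 E7.cert = true ∧ okConnected chevE7 = true := by
  refine ⟨?_, ?_, ?_, ?_, ?_⟩ <;> decide +kernel

theorem more_E8 : okOppSimple E8.cert [0, 1, 2, 0, 3, 1, 2, 0, 3, 2, 4, 3, 1, 2, 0, 3, 2, 4, 3, 1, 5, 4, 3, 1, 2, 0, 3, 2, 4, 3, 1, 5, 4, 3, 2, 0, 6, 5, 4, 3, 1, 2, 0, 3, 2, 4, 3, 1, 5, 4, 3, 2, 0, 6, 5, 4, 3, 1, 2, 3, 4, 5, 6, 7, 6, 5, 4, 3, 1, 2, 0, 3, 2, 4, 3, 1, 5, 4, 3, 2, 0, 6, 5, 4, 3, 1, 2, 3, 4, 5, 6, 7, 6, 5, 4, 3, 1, 2, 0, 3, 2, 4, 3, 1, 5, 4, 3, 2, 0, 6, 5, 4, 3, 1, 2, 3, 4, 5, 6, 7] = true ∧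
    okCommute chevE8 = true ∧ okEdge chevE8 = true ∧ okBonds chevE8 E8.cert = true ∧ okConnected chevE8 = true := by
  refine ⟨?_, ?_, ?_, ?_, ?_⟩ <;> decide +kernel

theorem tabs_of_mem {D : ChevalleyDatum}
    (hD : D ∈ [chevG2, chevB2, chevD4, chevF4, chevE6, chevE7, chevE8]) : ∃ C L T, Tabs D C L T := by
  have hc := okChar_of_mem hD
  simp only [List.mem_cons, List.not_mem_nil, or_false] at hD
  rcases hD with rfl | rfl | rfl | rfl | rfl | rfl | rfl
  · obtain ⟨a, b, c, d, e⟩ := more_G2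
    exact ⟨_, _, _, ⟨⟨G2.ok, G2.okChain_, G2.okBase_all, okOrder_G2⟩, okNeg_G2, opp_G2, a, G2.ht, hc, b, c, d, e⟩⟩
  · obtain ⟨a, b, c, d, e⟩ := more_B2
    exact ⟨_, _, _, ⟨⟨B2.ok, B2.okChain_, B2.okBase_all, okOrder_B2⟩, okNeg_B2, opp_B2, a, B2.ht, hc, b, c, d, e⟩⟩
  · obtain ⟨a, b, c, d, e⟩ := more_D4
    exact ⟨_, _, _, ⟨⟨D4.ok, D4.okChain_, D4.okBase_all, okOrder_D4⟩, okNeg_D4, opp_D4, a, D4.ht, hc, b, c, d, e⟩⟩
  · obtain ⟨a, b, c, d, e⟩ := more_F4
    exact ⟨_, _, _, ⟨⟨F4.ok, F4.okChain_, F4.okBase_all, okOrder_F4⟩, okNeg_F4, opp_F4, a, F4.ht, hc, b, c, d, e⟩⟩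
  · obtain ⟨a, b, c, d, e⟩ := more_E6
    exact ⟨_, _, _, ⟨⟨E6.ok, E6.okChain_, E6.okBase_all, okOrder_E6⟩, okNeg_E6, opp_E6, a, E6.ht, hc, b, c, d, e⟩⟩
  · obtain ⟨a, b, c, d, e⟩ := more_E7
    exact ⟨_, _, _, ⟨⟨E7.ok, E7.okChain_, E7.okBase_all, okOrder_E7⟩, okNeg_E7, opp_E7, a, E7.ht, hc, b, c, d, e⟩⟩
  · obtain ⟨a, b, c, d, e⟩ := more_E8
    exact ⟨_, _, _, ⟨⟨E8.ok, E8.okChain_, E8.okBase_all, okOrder_E8⟩, okNeg_E8, opp_E8, a, E8.ht, hc, b, c, d, e⟩⟩

end Cfsg.Lib.Known.ChevAut
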