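import Cfsg.Agent.Known.ChevAut.OutStruct
import Cfsg.Agent.Chev.Graph

/-! The order of the outer automorphism group. -/

set_option autoImplicit false

open Cfsg.Lie Cfsg.Lib.Chev
open scoped Pointwise

namespace Cfsg.Lib.Known.ChevAut

variable {D : ChevalleyDatum} {C : Cert} {L : List ℕ} {T : List (List ℤ)} {F : Type*} [Field F]

theorem prod_zpow_sum {M : Type*} [CommGroup M] {ι : Type*} [Fintype ι] [DecidableEq ι] (a : M) (f : ι → ℤ) :
    ∏ i, a ^ f i = a ^ ∑ i, f i := by
  induction (Finset.univ : Finset ι) using Finset.induction with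
  | empty => simp
  | insert x s hx ih => rw [Finset.prod_insert hx, Finset.sum_insert hx, zpow_add, ih]

/-- The values on the fundamental roots of the conjugations by torus elements. -/
noncomputable def torusVal (D : ChevalleyDatum) (F : Type*) [Field F] :
    (Fin D.rank → Fˣ) →* (Fin D.rank → Fˣ) :=
  MonoidHom.mk' (fun c j => ∏ i, c i ^ D.cartan i (D.simple j)) fun c c' => by
    funext j
    simp [mul_zpow, Finset.prod_mul_distrib]

theorem torusVal_apply (c : Fin D.rank → Fˣ) (j : Fin D.rank) :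
    torusVal D F c j = ∏ i, c i ^ D.cartan i (D.simple j) := rfl

/-- `tG c` as an element of the group. -/
noncomputable def gt (S : Struct D C) (c : Fin D.rank → Fˣ) : ↥(D.group F) :=
  ⟨Ok.tG D F c, S.diag_le_group (S.ok.diagonalSubgroup_eq.ge ⟨c, rfl⟩)⟩

theorem gt_conj (S : Struct D C) (c : Fin D.rank → Fˣ) (i : Fin D.rank) (t : F) :
    MulAut.conj (gt S c) (gp S i t) = gp S i ((torusVal D F c i : F) * t) :=
  Subtype.ext (S.tG_conj_xG (simple_lt S i) c t)

/-- An automorphism of shape `1` that fixes the fundamental root elements is trivial. -/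
theorem eq_one_of_gp (hT : Tabs D C L T) {η : MulAut ↥(D.group F)} (hs : Shape hT.str η 1)
    (hη : ∀ i t, η (gp hT.str i t) = gp hT.str i t) : η = 1 := by
  have S := hT.str
  obtain ⟨π', f', g', P⟩ := exists_param hT hs.1 hs.2.1
  obtain rfl : π' = 1 := Equiv.ext fun i =>
    xp_unique S hT.neg ((P.pos i 1).symm.trans (hη i 1)) (P.ne_zero i one_ne_zero)
  have hf' : ∀ i t, f' i t = t := fun i t => gp_inj S i ((P.pos i t).symm.trans (hη i t))
  refine mulAut_ext S (η' := 1) hη fun i t => ?_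
  rw [P.negEq]
  rcases eq_or_ne t 0 with rfl | ht
  · have h0 : gm S i (0 : F) = 1 := Subtype.ext (S.xG_zero _)
    have h1 := P.negEq i (0 : F)
    rw [h0, map_one] at h1
    exact h1.symm.trans (by rw [h0]; rfl)
  · have h1 := P.g_eq hT.neg i (t := -t⁻¹) (by simp [ht])
    rw [hf'] at h1
    simp only [inv_neg, inv_inv, neg_neg] at h1
    rw [h1]
    rfl

theorem diagAut_ext (hT : Tabs D C L T) {d d' : MulAut ↥(D.group F)} (hd : D.IsDiagonalAut d)
    (hd' : D.IsDiagonalAut d') (h : ∀ i, d (gp hT.str i 1) = d' (gp hT.str i 1)) : d = d' := by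
  have S := hT.str
  obtain ⟨χ, hχ, e⟩ := diag_apply S hT.chr hd
  obtain ⟨χ', hχ', e'⟩ := diag_apply S hT.chr hd'
  have hv : ∀ i : Fin D.rank, χ (D.simple i) = χ' (D.simple i) := fun i => by
    have h1 : gp S i ((χ (D.simple i) : F) * 1) = gp S i ((χ' (D.simple i) : F) * 1) :=
      (e _ (simple_lt S i) 1).symm.trans ((h i).trans (e' _ (simple_lt S i) 1))
    have h2 := gp_inj S i h1
    rw [mul_one, mul_one] at h2
    exact Units.ext h2
  refine mulAut_ext S (fun i t => ?_) fun i t => ?_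
  · exact (e _ (simple_lt S i) t).trans ((e' _ (simple_lt S i) t).trans (by rw [hv])).symm
  · refine (e _ (negSimple_lt S i) t).trans ((e' _ (negSimple_lt S i) t).trans ?_).symm
    rw [hχ.1 _ (simple_lt S i), hχ'.1 _ (simple_lt S i), hv]

/-- The diagonal automorphism with given values on the fundamental roots. -/
noncomputable def diagOf (hT : Tabs D C L T) (c : Fin D.rank → Fˣ) : MulAut ↥(D.group F) :=
  Classical.choose (exists_diagAut hT.str hT.chr (chiOf_isRootCharacter (F := F) hT.ht c))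

theorem diagOf_isDiag (hT : Tabs D C L T) (c : Fin D.rank → Fˣ) : D.IsDiagonalAut (diagOf hT c) :=
  (Classical.choose_spec (exists_diagAut hT.str hT.chr (chiOf_isRootCharacter (F := F) hT.ht c))).1

theorem diagOf_gp (hT : Tabs D C L T) (c : Fin D.rank → Fˣ) (i : Fin D.rank) (t : F) :
    diagOf hT c (gp hT.str i t) = gp hT.str i ((c i : F) * t) := by
  have h := (Classical.choose_spec (exists_diagAut hT.str hT.chr (chiOf_isRootCharacter (F := F) hT.ht c))).2
    _ (simple_lt hT.str i) t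
  rw [chiOf_simple hT.ht] at h
  exact h

theorem diagOf_gm (hT : Tabs D C L T) (c : Fin D.rank → Fˣ) (i : Fin D.rank) (t : F) :
    diagOf hT c (gm hT.str i t) = gm hT.str i (((c i)⁻¹ : Fˣ) * t) := by
  have h := (Classical.choose_spec (exists_diagAut hT.str hT.chr (chiOf_isRootCharacter (F := F) hT.ht c))).2
    _ (negSimple_lt hT.str i) t
  rw [(chiOf_isRootCharacter hT.ht c).1 _ (simple_lt hT.str i), chiOf_simple hT.ht] at h
  exact h

/-- The classes of the diagonal automorphisms. -/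
noncomputable def diagCls (hT : Tabs D C L T) (F : Type*) [Field F] :
    (Fin D.rank → Fˣ) →* Cfsg.Out ↥(D.group F) :=
  (QuotientGroup.mk' _).comp (MonoidHom.mk' (diagOf hT) fun c c' =>
    mulAut_ext hT.str
      (fun i t => by
        rw [MulAut.mul_apply, diagOf_gp, diagOf_gp, diagOf_gp, Pi.mul_apply, Units.val_mul, mul_assoc])
      (fun i t => by
        rw [MulAut.mul_apply, diagOf_gm, diagOf_gm, diagOf_gm, Pi.mul_apply, mul_inv, Units.val_mul, mul_assoc]))

theorem diagCls_range (hT : Tabs D C L T) :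
    (diagCls hT F).range = (diagGrp D F).map (QuotientGroup.mk' (Cfsg.Inn ↥(D.group F))) := by
  apply le_antisymm
  · rintro _ ⟨c, rfl⟩
    exact ⟨_, Subgroup.subset_closure (diagOf_isDiag hT c), rfl⟩
  · rw [Subgroup.map_le_iff_le_comap]
    refine (Subgroup.closure_le _).2 fun d hd => ?_
    obtain ⟨χ, -, e⟩ := diag_apply hT.str hT.chr hd
    refine ⟨fun i => χ (D.simple i), ?_⟩
    show QuotientGroup.mk' _ (diagOf hT _) = QuotientGroup.mk' _ d
    congr 1
    refine diagAut_ext hT (diagOf_isDiag hT _) hd fun i => ?_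
    rw [diagOf_gp]
    exact (e _ (simple_lt hT.str i) 1).symm

theorem diagCls_ker [Finite F] (hT : Tabs D C L T) : (diagCls hT F).ker = (torusVal D F).range := by
  have S := hT.str
  apply le_antisymm
  · intro c hc
    obtain ⟨a, ha⟩ := (QuotientGroup.eq_one_iff _).1 hc
    change MulAut.conj a = diagOf hT c at ha
    have hs := shape_diag S hT.chr (diagOf_isDiag hT c)
    have hd := mem_diag_of_fixes hT (a := a) (ha ▸ hs.1) (ha ▸ hs.2.1)
    rw [S.ok.diagonalSubgroup_eq] at hd
    obtain ⟨c', hc'⟩ := hd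
    obtain rfl : gt S c' = a := Subtype.ext hc'
    refine ⟨c', funext fun i => ?_⟩
    have h1 := gt_conj S c' i 1
    rw [ha, diagOf_gp, mul_one, mul_one] at h1
    exact Units.ext (gp_inj S i h1).symm
  · rintro _ ⟨c', rfl⟩
    refine (QuotientGroup.eq_one_iff _).2 ⟨gt S c', ?_⟩
    show MulAut.conj (gt S c') = diagOf hT (torusVal D F c')
    refine inv_mul_eq_one.1 (eq_one_of_gp hT ?_ fun i t => ?_)
    · have h1 := shape_conj_diag S (h := gt S c') (S.ok.diagonalSubgroup_eq.ge ⟨c', rfl⟩)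
      refine ⟨h1.1.symm.mul (shape_diag S hT.chr (diagOf_isDiag hT _)).1,
        h1.2.1.symm.mul (shape_diag S hT.chr (diagOf_isDiag hT _)).2.1, fun i t => ⟨t, ?_⟩⟩
      rw [MulAut.mul_apply, diagOf_gp, ← gt_conj, MulAut.inv_apply_self]
      rfl
    · rw [MulAut.mul_apply, diagOf_gp, ← gt_conj, MulAut.inv_apply_self]

theorem card_diagBar [Finite F] (hT : Tabs D C L T) :
    Nat.card ↥((diagGrp D F).map (QuotientGroup.mk' (Cfsg.Inn ↥(D.group F)))) = (torusVal D F).range.index := by
  rw [← diagCls_range hT, ← Subgroup.index_ker, diagCls_ker]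

theorem field_diag_trivial [Finite F] (hT : Tabs D C L T) (hr : 0 < D.rank) {c : Fin D.rank → Fˣ} {σ : F ≃+* F}
    (h : diagCls hT F c = QuotientGroup.mk' _ (fieldHom hT.str F σ)) : σ = RingEquiv.refl F := by
  have S := hT.str
  obtain ⟨a, ha⟩ := QuotientGroup.eq.1 h
  change MulAut.conj a = (diagOf hT c)⁻¹ * fieldHom S F σ at ha
  have hsd := shape_diag S hT.chr (diagOf_isDiag hT c)
  have hsf := shape_field S ((mem_fieldHom_range S).1 ⟨σ, rfl⟩)
  have hd := mem_diag_of_fixes hT (a := a) (ha ▸ hsd.1.symm.mul hsf.1) (ha ▸ hsd.2.1.symm.mul hsf.2.1)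
  rw [S.ok.diagonalSubgroup_eq] at hd
  obtain ⟨c', hc'⟩ := hd
  obtain rfl : gt S c' = a := Subtype.ext hc'
  have hf : fieldHom S F σ = diagOf hT c * MulAut.conj (gt S c') := by rw [ha, mul_inv_cancel_left]
  let i : Fin D.rank := ⟨0, hr⟩
  have key : ∀ t, σ t = (c i : F) * ((torusVal D F c' i : F) * t) := fun t => by
    have h1 : fieldHom S F σ (gp S i t) = gp S i (σ t) := fieldHom_root S σ (simple_lt S i) t
    rw [hf, MulAut.mul_apply, gt_conj, diagOf_gp] at h1
    exact (gp_inj S i h1).symm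
  refine RingEquiv.ext fun t => ?_
  have h1 := key 1
  rw [map_one, mul_one] at h1
  rw [key, ← mul_assoc, ← h1, one_mul]
  rfl

theorem card_sup_of_disjoint {G : Type*} [Group G] (A B : Subgroup G) [A.Normal] (h : A ⊓ B = ⊥) :
    Nat.card ↥(A ⊔ B) = Nat.card ↥A * Nat.card ↥B := by
  rw [← Nat.card_prod]
  refine (Nat.card_congr (Equiv.ofBijective (fun x : ↥A × ↥B => (⟨x.1 * x.2,
    mul_mem (Subgroup.mem_sup_left x.1.2) (Subgroup.mem_sup_right x.2.2)⟩ : ↥(A ⊔ B))) ⟨?_, ?_⟩)).symm
  · exact fun x y e => Subgroup.mul_injective_of_disjoint (disjoint_iff.2 h) (congrArg Subtype.val e)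
  · rintro ⟨z, hz⟩
    have hz' : z ∈ ((A ⊔ B : Subgroup G) : Set G) := hz
    rw [Subgroup.normal_mul] at hz'
    obtain ⟨a, ha, b, hb, e⟩ := Set.mem_mul.1 hz'
    exact ⟨(⟨a, ha⟩, ⟨b, hb⟩), Subtype.ext e⟩

theorem card_out [Fintype F] (p f : ℕ) [Fact p.Prime] [CharP F p] (hF : Fintype.card F = p ^ f)
    (hT : Tabs D C L T) (hr : 0 < D.rank) :
    Nat.card (Cfsg.Out ↥(D.group F)) =
      Nat.card ↥(diagHom (F := F) hT).range * (torusVal D F).range.index * f := by
  set q := QuotientGroup.mk' (Cfsg.Inn ↥(D.group F))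
  obtain ⟨-, hidx⟩ := index_eq hT (ker_diagHom (F := F) hT)
  haveI := diag_normal (F := F) hT
  have hdis : (diagGrp D F).map q ⊓ (Subgroup.closure {φ : MulAut ↥(D.group F) | D.IsFieldAut φ}).map q = ⊥ := by
    refine eq_bot_iff.2 fun o ho => ?_
    obtain ⟨h1, h2⟩ := Subgroup.mem_inf.1 ho
    rw [← diagCls_range hT] at h1
    rw [closure_field hT.str, MonoidHom.map_range] at h2
    obtain ⟨c, rfl⟩ := h1
    obtain ⟨σ, hσ⟩ := h2
    rw [Subgroup.mem_bot]
    change q (fieldHom hT.str F σ) = diagCls hT F c at hσ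
    rw [← hσ, field_diag_trivial hT hr hσ.symm, show RingEquiv.refl F = (1 : F ≃+* F) from rfl, map_one, map_one]
  have hfield : Nat.card ↥((Subgroup.closure {φ : MulAut ↥(D.group F) | D.IsFieldAut φ}).map q) = f := by
    rw [closure_field hT.str, MonoidHom.map_range, ← (ringAut_facts (F := F) p f hF).2]
    have hinj : Function.Injective (q.comp (fieldHom hT.str F)) := by
      refine (injective_iff_map_eq_one _).2 fun σ hσ => ?_
      obtain ⟨a, ha⟩ := (QuotientGroup.eq_one_iff _).1 hσ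
      exact inner_eq_field hT hr (fun r hr t => fieldHom_root hT.str σ hr t) ha
    exact (Nat.card_congr (MonoidHom.ofInjective hinj).toEquiv).symm
  rw [← Subgroup.card_mul_index ((diagGrp D F).map q ⊔
    (Subgroup.closure {φ : MulAut ↥(D.group F) | D.IsFieldAut φ}).map q), hidx,
    card_sup_of_disjoint _ _ hdis, card_diagBar hT, hfield]
  ring

/-- Integral data exhibiting the cokernel of the Cartan matrix as cyclic of order `d`. -/
structure CokerData (D : ChevalleyDatum) (d : ℕ) where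
  /-- the pivot -/
  k : Fin D.rank
  /-- the functional modulo `d` -/
  v : Fin D.rank → ℤ
  /-- quotients -/
  y : Fin D.rank → ℤ
  /-- preimage of `d` times the pivot -/
  w : Fin D.rank → ℤ
  /-- preimages -/
  N : Fin D.rank → Fin D.rank → ℤ
  hv : v k = 1
  hy : ∀ i, ∑ j, D.cartan i.val (D.simple j.val) * v j = d * y i
  hw : ∀ j, ∑ i, w i * D.cartan i.val (D.simple j.val) = if j = k then (d : ℤ) else 0
  hN : ∀ m j, ∑ i, N i m * D.cartan i.val (D.simple j.val) =
    (if m = j then 1 else 0) - if j = k then v m else 0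

theorem index_torusVal [Fintype F] {d : ℕ} (E : CokerData D d) :
    (torusVal D F).range.index = Nat.gcd d (Fintype.card F - 1) := by
  classical
  let ψ : (Fin D.rank → Fˣ) →* Fˣ := MonoidHom.mk' (fun c => ∏ j, c j ^ E.v j) fun c c' => by
    simp [mul_zpow, Finset.prod_mul_distrib]
  let χ := (QuotientGroup.mk' (powMonoidHom d : Fˣ →* Fˣ).range).comp ψ
  have hsurj : Function.Surjective χ := by
    intro o
    obtain ⟨z, rfl⟩ := QuotientGroup.mk'_surjective _ o
    refine ⟨Pi.mulSingle E.k z, ?_⟩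
    show QuotientGroup.mk' _ (∏ j, (Pi.mulSingle E.k z : Fin D.rank → Fˣ) j ^ E.v j) = _
    rw [Finset.prod_eq_single E.k]
    · simp [E.hv]
    · intro j _ hj; simp [Pi.mulSingle_eq_of_ne hj]
    · simp
  have hker : χ.ker = (torusVal D F).range := by
    apply le_antisymm
    · intro c hc
      obtain ⟨z, hz⟩ := (QuotientGroup.eq_one_iff _).1 hc
      change z ^ d = ∏ j, c j ^ E.v j at hz
      refine ⟨fun i => (∏ m, c m ^ E.N i m) * z ^ E.w i, funext fun j => ?_⟩
      rw [torusVal_apply]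
      simp only [mul_zpow, ← Finset.prod_zpow, ← zpow_mul, Finset.prod_mul_distrib]
      rw [Finset.prod_comm]
      simp only [prod_zpow_sum, E.hN, E.hw]
      simp only [zpow_sub, Finset.prod_mul_distrib, Finset.prod_inv_distrib]
      rcases eq_or_ne j E.k with hj | hj
      · subst hj
        simp [hz]
      · simp [hj]
    · rintro _ ⟨c, rfl⟩
      refine (QuotientGroup.eq_one_iff _).2 ⟨∏ i, c i ^ E.y i, ?_⟩
      show (∏ i, c i ^ E.y i) ^ d = ∏ j, torusVal D F c j ^ E.v j
      simp only [torusVal_apply, ← Finset.prod_zpow, ← zpow_mul]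
      rw [Finset.prod_comm, ← Finset.prod_pow]
      refine Finset.prod_congr rfl fun i _ => ?_
      rw [prod_zpow_sum, E.hy, ← zpow_natCast, ← zpow_mul, mul_comm]
  rw [← hker, Subgroup.index_ker, MonoidHom.range_eq_top.2 hsurj, Subgroup.card_top, ← Subgroup.index,
    IsCyclic.index_powMonoidHom_range, Nat.card_eq_fintype_card, Fintype.card_units, Nat.gcd_comm]

theorem mem_range_of_graph [Finite F] {C' : Cert} (hT : Tabs D C L T) (S : Struct D C') {G : GTab} {pi : List ℕ}
    (hG : G.okAut C' = true) (hpi : GTab.okSimple G C' pi = true)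
    (hpos : ∀ r : Fin D.nroots, (D.nroots / 2 ≤ G.rho D.rank r ↔ D.nroots / 2 ≤ r.val))
    (π : Equiv.Perm (Fin D.rank)) (hπ : ∀ i : Fin D.rank, (π i).val = pi.getD i.val 0) :
    π ∈ (diagHom (F := F) hT).range := by
  obtain ⟨α, hα⟩ := GTab.exists_aut (F := F) S.ok hG
  obtain ⟨hU, hV⟩ := fixes_UV S (η := α) fun r hr t =>
    ⟨G.rho D.rank r, _, GTab.rho_lt S.ok hG hr, hpos ⟨r, hr⟩,
      S.ok.eq_xG (hα _ r t hr (S.ok.val_xG _ _))⟩
  refine ⟨α, diagHom_eq hT (Kind.of_shape ⟨hU, hV, fun i t => ?_⟩)⟩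
  have h0 := kall_krange hpi i.val (S.ok.l_eq.symm ▸ i.isLt)
  simp only [Bool.and_eq_true] at h0
  have a := Nat.eq_of_beq_eq_true h0.1.1.1.1
  rw [S.ok.l_eq, S.ok.sr_eq i.isLt, ← hπ i, S.ok.sr_eq (π i).isLt] at a
  refine ⟨(G.eps D.rank (D.simple i) : F) * t, Subtype.ext ?_⟩
  have h1 := S.ok.eq_xG (hα (gp hT.str i t) (D.simple i) t (simple_lt S i) (hT.str.ok.val_xG _ _))
  rw [a] at h1
  exact Units.ext (by rw [h1, S.ok.val_xG]; exact (hT.str.ok.val_xG _ _).symm)

end Cfsg.Lib.Known.ChevAut
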