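import Cfsg.Agent.Known.ChevAut.OutStruct

/-! Type D4: all six symmetries of the diagram occur. -/

set_option autoImplicit false

open Cfsg.Lie Cfsg.Lib.Chev

namespace Cfsg.Lib.Known.ChevAut

/-- The graph automorphism exchanging two end nodes. -/
noncomputable def d4Swap : GTab where
  pc := [0, 1, 3, 2, 4, 5, 7, 6, 8, 9, 10, 12, 11, 13, 15, 14, 17, 16, 18, 20, 19, 21, 22, 23, 25, 24, 26, 27]
  pci := [0, 1, 3, 2, 4, 5, 7, 6, 8, 9, 10, 12, 11, 13, 15, 14, 17, 16, 18, 20, 19, 21, 22, 23, 25, 24, 26, 27]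
  es := [1, 1, 1, 1, 1, 1, 1, 1, 1, 1, 1, 1, 1, 1, 1, 1, 1, 1, 1, 1, 1, 1, 1, 1, 1, 1, 1, 1]

theorem d4Swap_ok : d4Swap.okAut D4.cert = true := by decide +kernel
theorem d4Swap_simple : GTab.okSimple d4Swap D4.cert [0, 1, 3, 2] = true := by decide +kernel

/-- The swap as a permutation of the nodes. -/
def d4PermS : Equiv.Perm (Fin chevD4.rank) :=
  Equiv.swap ⟨2, by decide⟩ ⟨3, by decide⟩

/-- The triality as a permutation of the nodes. -/
def d4PermA : Equiv.Perm (Fin chevD4.rank) :=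
  Equiv.swap ⟨0, by decide⟩ ⟨3, by decide⟩ * Equiv.swap ⟨0, by decide⟩ ⟨2, by decide⟩

theorem d4_perm_vals :
    (∀ i : Fin chevD4.rank, (d4PermS i).val = [0, 1, 3, 2].getD i.val 0) ∧
      (∀ i : Fin chevD4.rank, (d4PermA i).val = [2, 1, 3, 0].getD i.val 0) := by
  constructor <;> decide +kernel

theorem d4_pos :
    (∀ r : Fin chevD4.nroots, (chevD4.nroots / 2 ≤ d4Swap.rho chevD4.rank r ↔ chevD4.nroots / 2 ≤ r.val)) ∧
      ∀ r : Fin chevD4.nroots, (chevD4.nroots / 2 ≤ D4.graphA.rho chevD4.rank r ↔ chevD4.nroots / 2 ≤ r.val) := by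
  constructor <;> decide +kernel

theorem d4_noncomm : d4PermS * d4PermA ≠ d4PermA * d4PermS := by decide +kernel

theorem card_range_D4 {C : Cert} {L : List ℕ} {T : List (List ℤ)} {F : Type*} [Field F] [Finite F]
    (hT : Tabs chevD4 C L T) :
    Nat.card ↥(diagHom (F := F) hT).range = 6 ∧
      ¬ ∀ θ η : MulAut ↥(chevD4.group F), diagHom hT (θ * η * θ⁻¹ * η⁻¹) = 1 := by
  have S : Struct chevD4 D4.cert := ⟨D4.ok, D4.okChain_, D4.okBase_all, okOrder_D4⟩
  have hs := d4_perms (F := F) hT S d4Swap_ok d4Swap_simple d4_pos.1 d4PermS d4_perm_vals.1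
  have ha := d4_perms (F := F) hT S D4.graphA_ok D4.graphA_simple d4_pos.2 d4PermA d4_perm_vals.2
  set H := (diagHom (F := F) hT).range
  refine ⟨le_antisymm (card_sym_le sym_D4 H ?_) ?_, fun h => ?_⟩
  · rintro π ⟨θ, rfl⟩
    exact diagHom_symmetry hT θ
  · let l : Fin 6 → ↥H := ![1, ⟨_, hs⟩, ⟨_, ha⟩, ⟨_, mul_mem ha ha⟩, ⟨_, mul_mem hs ha⟩, ⟨_, mul_mem ha hs⟩]
    have hl : Function.Injective l := by
      have hd : Function.Injective (fun k : Fin 6 => ![(1 : Equiv.Perm (Fin chevD4.rank)), d4PermS, d4PermA,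
          d4PermA * d4PermA, d4PermS * d4PermA, d4PermA * d4PermS] k) := by decide +kernel
      intro a b e
      apply hd
      have := congrArg Subtype.val e
      fin_cases a <;> fin_cases b <;> simpa [l] using this
    simpa using Nat.card_le_card_of_injective l hl
  · obtain ⟨θ, hθ⟩ := hs
    obtain ⟨η, hη⟩ := ha
    have := h θ η
    rw [map_mul, map_mul, map_mul, map_inv, map_inv, hθ, hη, mul_inv_eq_one, mul_inv_eq_iff_eq_mul] at this
    exact d4_noncomm this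

end Cfsg.Lib.Known.ChevAut
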