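import Cfsg.Agent.Known.ChevAut.Roots

/-! The action of such an automorphism on the parameters of the fundamental root subgroups. -/

set_option autoImplicit false

open Cfsg.Lie Cfsg.Lib.Chev

namespace Cfsg.Lib.Known.ChevAut

variable {D : ChevalleyDatum} {C : Cert} {L : List ℕ} {T : List (List ℤ)} {F : Type*} [Field F]

/-- If `x(a) y(b) x(a)` conjugates a nontrivial element of `X` into `Y`, then `1 + a b = 0`. -/
theorem sl2_key {G : Type*} [Group G] {x y : F → G} (R : SL2Rel x y) (hxy : ∀ p q, x p = y q → p = 0)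
    {a b c e : F} (hc : c ≠ 0) (h : x a * y b * x a * x c * (x a * y b * x a)⁻¹ = y e) : 1 + a * b = 0 := by
  obtain ⟨φ, hu, hl, -⟩ := R.exists_hom
  set Z : Matrix.SpecialLinearGroup (Fin 2) F := uM a * lM b * uM a with hZ
  set M := Z * uM c * (uM (-a) * lM (-b) * uM (-a)) with hM
  have hinv : Z⁻¹ = uM (-a) * lM (-b) * uM (-a) := by
    rw [inv_eq_iff_mul_eq_one]
    apply mat_inj
    rw [mat_one]
    ext i j
    fin_cases i <;> fin_cases j <;>
      simp [hZ, mat_mul, mat_uM, mat_lM, Matrix.mul_apply, Fin.sum_univ_two] <;> ring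
  have hφ : φ M = y e := by
    rw [hM, ← hinv, map_mul, map_mul, map_inv, hZ, map_mul, map_mul, hu, hl, hu, h]
  have h01 : mat M 0 1 = c * (1 + a * b) ^ 2 := by
    simp [hM, hZ, mat_mul, mat_uM, mat_lM, Matrix.mul_apply, Fin.sum_univ_two]
    ring
  by_contra hne
  have hm : mat M 0 1 ≠ 0 := by rw [h01]; exact mul_ne_zero hc (pow_ne_zero _ hne)
  set m := mat M 0 1 with hmd
  have hd := mat_det M
  have hdec : M = lM ((mat M 1 1 - 1) / m) * uM m * lM ((mat M 0 0 - 1) / m) := by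
    apply mat_inj
    rw [Matrix.eta_fin_two (mat M)]
    ext i j
    fin_cases i <;> fin_cases j <;>
      simp [mat_mul, mat_uM, mat_lM, Matrix.mul_apply, Fin.sum_univ_two, ← hmd] <;> field_simp
    all_goals first | ring1 | linear_combination hd | linear_combination -hd
  rw [hdec, map_mul, map_mul, hl, hu, hl] at hφ
  refine hm (hxy m (-((mat M 1 1 - 1) / m) + e + -((mat M 0 0 - 1) / m)) ?_)
  rw [← R.addy, ← R.addy, ← hφ]
  have hy : ∀ s, y (-s) = (y s)⁻¹ := fun s => eq_inv_of_mul_eq_one_left (by rw [R.addy, neg_add_cancel, R.y_zero])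
  rw [hy, hy]
  group

/-- An additive bijection with `σ 1 = 1` and `σ (a² t) = σ(a)² σ(t)` of a finite field is an automorphism. -/
theorem exists_ringEquiv [Finite F] {σ : F → F} (hb : Function.Bijective σ)
    (hadd : ∀ a b, σ (a + b) = σ a + σ b) (h1 : σ 1 = 1) (hsq : ∀ a t, σ (a ^ 2 * t) = σ a ^ 2 * σ t) :
    ∃ ρ : F ≃+* F, ∀ t, ρ t = σ t := by
  have hs2 : ∀ a, σ (a ^ 2) = σ a ^ 2 := fun a => by simpa [h1] using hsq a 1
  have hmul : ∀ a t, σ (a * t) = σ a * σ t := by
    intro a t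
    by_cases h2 : ringChar F = 2
    · obtain ⟨s, rfl⟩ := FiniteField.isSquare_of_char_two h2 a
      rw [← pow_two, hsq, hs2]
    · have h := hsq (a + 1) t
      rw [show (a + 1) ^ 2 * t = a ^ 2 * t + (a * t + a * t) + t by ring, hadd, hadd, hadd, hsq, hadd, h1] at h
      have h22 : (2 : F) ≠ 0 := Ring.two_ne_zero h2
      refine mul_left_cancel₀ h22 ?_
      linear_combination h
  exact ⟨{ Equiv.ofBijective σ hb with map_mul' := hmul, map_add' := hadd }, fun t => rfl⟩

/-- `x_{p_i}(t)` as an element of the group. -/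
noncomputable def gp (S : Struct D C) (i : Fin D.rank) (t : F) : ↥(D.group F) :=
  ⟨S.ok.xG (D.simple i) t, S.ok.xG_mem_group _ _⟩

/-- `x_{-p_i}(t)` as an element of the group. -/
noncomputable def gm (S : Struct D C) (i : Fin D.rank) (t : F) : ↥(D.group F) :=
  ⟨S.ok.xG (D.neg (D.simple i)) t, S.ok.xG_mem_group _ _⟩

/-- `n_{p_i}(t)` as an element of the group. -/
noncomputable def gn (S : Struct D C) (i : Fin D.rank) (t : F) : ↥(D.group F) :=
  ⟨S.ok.nG (D.simple i) t, S.ok.nG_mem_group _ _⟩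

/-- `h_{p_i}(t)` as an element of the group. -/
noncomputable def gh (S : Struct D C) (i : Fin D.rank) (t : F) : ↥(D.group F) :=
  ⟨S.ok.hG (D.simple i) t, S.ok.hG_mem_group _ _⟩

theorem gp_inj (S : Struct D C) (i : Fin D.rank) {t u : F} (h : gp S i t = gp S i u) : t = u :=
  xG_inj S (simple_lt S i) (congrArg Subtype.val h)

theorem gm_inj (S : Struct D C) (i : Fin D.rank) {t u : F} (h : gm S i t = gm S i u) : t = u :=
  xG_inj S (negSimple_lt S i) (congrArg Subtype.val h)

theorem gp_add (S : Struct D C) (i : Fin D.rank) (t u : F) : gp S i t * gp S i u = gp S i (t + u) :=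
  Subtype.ext (S.ok.xG_mul _ _ _)

theorem gm_add (S : Struct D C) (i : Fin D.rank) (t u : F) : gm S i t * gm S i u = gm S i (t + u) :=
  Subtype.ext (S.ok.xG_mul _ _ _)

theorem gn_eq (S : Struct D C) (i : Fin D.rank) (t : F) : gn S i t = gp S i t * gm S i (-t⁻¹) * gp S i t :=
  Subtype.ext rfl

theorem gh_eq (S : Struct D C) (i : Fin D.rank) (t : F) : gh S i t = gn S i t * gn S i (-1) :=
  Subtype.ext rfl

theorem gh_conj (S : Struct D C) (i j : Fin D.rank) {a : F} (ha : a ≠ 0) (t : F) :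
    gh S i a * gp S j t = gp S j (a ^ D.cartan i (D.simple j) * t) * gh S i a :=
  Subtype.ext (S.ok.hG_mul_xG_simple i.isLt (simple_lt S j) ha t)

theorem gh_conj_self (S : Struct D C) (i : Fin D.rank) {a : F} (ha : a ≠ 0) (t : F) :
    gh S i a * gp S i t = gp S i (a ^ 2 * t) * gh S i a :=
  Subtype.ext ((S.sl2Rel_simple i).conj a t ha)

theorem gn_conj_mem (S : Struct D C) (i : Fin D.rank) {a : F} (ha : a ≠ 0) :
    ∃ e, gn S i a * gp S i 1 * (gn S i a)⁻¹ = gm S i e := by
  refine ⟨a ^ D.cartan i (D.neg (D.simple i)) * ((C.eta i (D.simple i) : F) * 1), Subtype.ext ?_⟩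
  show S.ok.nG (D.simple i) a * S.ok.xG (D.simple i) 1 * (S.ok.nG (D.simple i) a)⁻¹ = _
  have hw : C.w i (D.simple i) = D.neg (D.simple i) := by
    rw [← S.ok.sr_eq i.isLt, (S.ok.refl_simple i.isLt).1, S.ok.neg_eq (S.ok.sr_lt i.isLt)]
  rw [S.ok.nG_eq_hG_mul i.isLt ha]
  have h1 := S.ok.conj_nG_xG (F := F) i.isLt (simple_lt S i) 1
  rw [hw] at h1
  have h2 := S.ok.hG_mul_xG_simple (F := F) i.isLt (negSimple_lt S i) ha ((C.eta i (D.simple i) : F) * 1)
  calc _ = S.ok.hG (D.simple i) a * (S.ok.nG (D.simple i) 1 * S.ok.xG (D.simple i) 1 * (S.ok.nG (D.simple i) 1)⁻¹) *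
        (S.ok.hG (D.simple i) a)⁻¹ := by group
    _ = _ := by rw [h1, h2]; simp [gm]

/-- What is known about an automorphism fixing `U` and `V`. -/
structure Param (S : Struct D C) (θ : MulAut ↥(D.group F)) (π : Equiv.Perm (Fin D.rank))
    (f g : Fin D.rank → F → F) : Prop where
  pos : ∀ i t, θ (gp S i t) = gp S (π i) (f i t)
  negEq : ∀ i t, θ (gm S i t) = gm S (π i) (g i t)
  bij : ∀ i, Function.Bijective (f i)
  add : ∀ i t u, f i (t + u) = f i t + f i u

theorem exists_param (hT : Tabs D C L T) {θ : MulAut ↥(D.group F)} (hU : Fixes θ (D.posUnipotent F))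
    (hV : Fixes θ (D.negUnipotent F)) : ∃ π f g, Param hT.str θ π f g := by
  obtain ⟨π, hπ⟩ := exists_perm hT hU hV
  choose f hf using fun (i : Fin D.rank) (t : F) => (hπ i (gp hT.str i t)).1.2 ⟨t, rfl⟩
  choose g hg using fun (i : Fin D.rank) (t : F) => (hπ i (gm hT.str i t)).2.2 ⟨t, rfl⟩
  refine ⟨π, f, g, fun i t => Subtype.ext (hf i t), fun i t => Subtype.ext (hg i t), fun i => ⟨fun t u e => ?_, fun b => ?_⟩, fun i t u => ?_⟩
  · refine gp_inj hT.str i (θ.injective (Subtype.ext ?_))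
    rw [hf, hf, e]
  · obtain ⟨z, hz⟩ := θ.surjective (gp hT.str (π i) b)
    obtain ⟨t, ht⟩ := (hπ i z).1.1 ⟨b, by rw [hz]; rfl⟩
    refine ⟨t, gp_inj hT.str (π i) (Subtype.ext ?_)⟩
    show hT.str.ok.xG _ _ = _
    rw [← hf, show gp hT.str i t = z from Subtype.ext ht.symm, hz]
  · have e : ∀ s, θ (gp hT.str i s) = gp hT.str (π i) (f i s) := fun s => Subtype.ext (hf i s)
    refine gp_inj hT.str (π i) ?_
    rw [← gp_add, ← e, ← e, ← e, ← map_mul, gp_add]

namespace Param

variable {S : Struct D C} {θ : MulAut ↥(D.group F)} {π : Equiv.Perm (Fin D.rank)} {f g : Fin D.rank → F → F}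

theorem zero (P : Param S θ π f g) (i : Fin D.rank) : f i 0 = 0 := by
  have := P.add i 0 0
  rw [add_zero] at this
  linear_combination -this

theorem ne_zero (P : Param S θ π f g) (i : Fin D.rank) {t : F} (ht : t ≠ 0) : f i t ≠ 0 :=
  fun h => ht ((P.bij i).1 (h.trans (P.zero i).symm))

theorem map_neg (P : Param S θ π f g) (i : Fin D.rank) (t : F) : f i (-t) = -f i t := by
  have := P.add i t (-t)
  rw [add_neg_cancel, P.zero] at this
  linear_combination -this

theorem map_gn (P : Param S θ π f g) (hN : okNeg D = true) (i : Fin D.rank) {t : F} (ht : t ≠ 0) :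
    θ (gn S i t) = gn S (π i) (f i t) := by
  set a := f i t
  set b := g i (-t⁻¹)
  have hz : θ (gn S i t) = gp S (π i) a * gm S (π i) b * gp S (π i) a := by
    rw [gn_eq, map_mul, map_mul, P.pos, P.negEq]
  obtain ⟨e, he⟩ := gn_conj_mem S i ht
  have h1 := congrArg θ he
  rw [map_mul, map_mul, map_inv, hz, P.pos, P.negEq] at h1
  have key := sl2_key (S.sl2Rel_simple (F := F) (π i)) (fun p q hpq => by
    have h3 : S.ok.xG (D.simple (π i)) p ∈ D.borelSubgroup F ⊓ D.negUnipotent F :=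
      Subgroup.mem_inf.2 ⟨S.B_le_of (posX_mem_U S _ _), by
        rw [show S.ok.xG (D.simple (π i)) p = S.ok.xG (D.neg (D.simple (π i))) q from hpq]
        exact negX_mem_V S _ _⟩
    rw [S.B_inf_V hN, Subgroup.mem_bot] at h3
    exact S.xG_eq_one (simple_lt S _) h3) (P.ne_zero i one_ne_zero) (congrArg Subtype.val h1)
  have ha : a ≠ 0 := P.ne_zero i ht
  rw [hz, gn_eq, show b = -a⁻¹ by field_simp; linear_combination key]

theorem map_gh (P : Param S θ π f g) (hN : okNeg D = true) (i : Fin D.rank) {t : F} (ht : t ≠ 0) :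
    θ (gh S i t) = gh S (π i) (f i t / f i 1) := by
  rw [gh_eq, map_mul, P.map_gn hN i ht, P.map_gn hN i (neg_ne_zero.2 one_ne_zero), P.map_neg]
  have hp := simple_lt S (π i)
  have hl := (π i).isLt
  have ha := P.ne_zero i ht
  have hc := P.ne_zero i one_ne_zero
  refine Subtype.ext ?_
  show S.ok.nG (D.simple (π i)) (f i t) * S.ok.nG (D.simple (π i)) (-f i 1) = S.ok.hG (D.simple (π i)) (f i t / f i 1)
  rw [← S.ok.nG_inv, S.ok.nG_eq_hG_mul hl ha, S.ok.nG_eq_hG_mul hl hc, mul_inv_rev, mul_assoc,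
    mul_inv_cancel_left, S.ok.hG_inv hp hc, S.ok.hG_mul hp ha (inv_ne_zero hc), div_eq_mul_inv]

theorem torus (P : Param S θ π f g) (hN : okNeg D = true) (i j : Fin D.rank) {a : F} (ha : a ≠ 0) (t : F) :
    f j (a ^ D.cartan i (D.simple j) * t) =
      (f i a / f i 1) ^ D.cartan (π i) (D.simple (π j)) * f j t := by
  have h1 := congrArg θ (gh_conj S i j ha t)
  rw [map_mul, map_mul, P.pos, P.pos, P.map_gh hN i ha,
    gh_conj S (π i) (π j) (div_ne_zero (P.ne_zero i ha) (P.ne_zero i one_ne_zero))] at h1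
  exact (gp_inj S _ (mul_right_cancel h1)).symm

theorem square (P : Param S θ π f g) (hN : okNeg D = true) (i : Fin D.rank) (a t : F) :
    f i (a ^ 2 * t) = (f i a / f i 1) ^ 2 * f i t := by
  rcases eq_or_ne a 0 with rfl | ha
  · simp [P.zero]
  have h1 := congrArg θ (gh_conj_self S i ha t)
  rw [map_mul, map_mul, P.pos, P.pos, P.map_gh hN i ha,
    gh_conj_self S (π i) (div_ne_zero (P.ne_zero i ha) (P.ne_zero i one_ne_zero))] at h1
  exact (gp_inj S _ (mul_right_cancel h1)).symm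

theorem g_eq (P : Param S θ π f g) (hN : okNeg D = true) (i : Fin D.rank) {t : F} (ht : t ≠ 0) :
    g i (-t⁻¹) = -(f i t)⁻¹ := by
  have h1 := P.map_gn hN i ht
  rw [gn_eq, gn_eq, map_mul, map_mul, P.pos, P.negEq] at h1
  exact gm_inj S _ (mul_left_cancel (mul_right_cancel h1))

theorem exists_sigma [Finite F] (P : Param S θ π f g) (hN : okNeg D = true) :
    ∃ (c : Fin D.rank → Fˣ) (σ : Fin D.rank → (F ≃+* F)),
      (∀ i t, f i t = (c i : F) * σ i t) ∧ (∀ i t, g i t = ((c i)⁻¹ : Fˣ) * σ i t) ∧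
      ∀ (i j : Fin D.rank) (a : F), a ≠ 0 → σ j a ^ D.cartan i (D.simple j) = σ i a ^ D.cartan (π i) (D.simple (π j)) := by
  have hc := fun i => P.ne_zero i (t := (1 : F)) one_ne_zero
  have hσ : ∀ i, ∃ ρ : F ≃+* F, ∀ t, ρ t = f i t / f i 1 := fun i => by
    refine exists_ringEquiv ?_ (fun a b => by rw [P.add, add_div]) (div_self (hc i)) fun a t => by
      rw [P.square hN, mul_div_assoc]
    exact ⟨fun a b e => (P.bij i).1 ((div_left_inj' (hc i)).1 e), fun b =>
      ⟨Classical.choose ((P.bij i).2 (b * f i 1)), by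
        simp only
        rw [Classical.choose_spec ((P.bij i).2 (b * f i 1)), mul_div_assoc, div_self (hc i), mul_one]⟩⟩
  choose σ hσ using hσ
  refine ⟨fun i => Units.mk0 _ (hc i), σ, fun i t => ?_, fun i t => ?_, fun i j a ha => ?_⟩
  · rw [hσ, Units.val_mk0, mul_div_cancel₀ _ (hc i)]
  · rcases eq_or_ne t 0 with rfl | ht
    · have : g i 0 = 0 := gm_inj S (π i) (by
        have h0 : gm S i (0 : F) = 1 := Subtype.ext (S.xG_zero _)
        rw [← P.negEq, h0, map_one]
        exact (Subtype.ext (S.xG_zero _)).symm)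
      simp [this]
    · have hs : (-t⁻¹) ≠ 0 := by simp [ht]
      have h := P.g_eq hN i hs
      rw [inv_neg, neg_neg, inv_inv] at h
      have h2 : σ i t = -(σ i (-t⁻¹))⁻¹ := by rw [← map_inv₀, ← _root_.map_neg]; simp
      rw [h, h2, hσ, Units.val_inv_eq_inv_val, Units.val_mk0]
      have := hc i
      field_simp
  · have h := P.torus hN i j ha 1
    rw [mul_one, ← hσ] at h
    rw [← map_zpow₀, hσ, h, mul_div_assoc, div_self (hc j), mul_one]

end Param

end Cfsg.Lib.Known.ChevAut
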