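import Cfsg.Agent.Known.ChevAut.Base
import Cfsg.Agent.Known.ChevAut.Tables
import Cfsg.Agent.Chev.SL2

/-! An automorphism fixing `U` and `V` permutes the fundamental root subgroups and their opposites. -/

set_option autoImplicit false

open Cfsg.Lie Cfsg.Lib.Chev

namespace Cfsg.Lib.Known.ChevAut

variable {D : ChevalleyDatum} {C : Cert} {L : List ℕ} {T : List (List ℤ)} {F : Type*} [Field F]

theorem simple_lt (S : Struct D C) (i : Fin D.rank) : D.simple i < D.nroots :=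
  (S.ok.sr_eq i.isLt).symm ▸ S.ok.sr_lt i.isLt

theorem simple_half (S : Struct D C) (i : Fin D.rank) : D.nroots / 2 ≤ D.simple i :=
  (S.ok.sr_eq i.isLt).symm ▸ S.sr_pos i.isLt

theorem negSimple_lt (S : Struct D C) (i : Fin D.rank) : D.neg (D.simple i) < D.nroots :=
  (S.neg_neg' (simple_lt S i)).1

theorem negSimple_half (S : Struct D C) (i : Fin D.rank) : D.neg (D.simple i) < D.nroots / 2 :=
  S.neg_lt_half (simple_lt S i) (simple_half S i)

theorem simple_inj (S : Struct D C) (hN : okNeg D = true) {i j : Fin D.rank}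
    (h : D.simple i = D.simple j) : i = j := by
  by_contra hne
  exact S.simple_ne hN i j hne (by rw [S.ok.sr_eq i.isLt, S.ok.sr_eq j.isLt, h])

theorem xG_inj (S : Struct D C) {r : ℕ} (hr : r < D.nroots) {t u : F} (h : S.ok.xG r t = S.ok.xG r u) :
    t = u := by
  have : S.ok.xG r (t + -u) = 1 := by rw [← S.ok.xG_mul, ← S.ok.xG_inv, h, mul_inv_cancel]
  have h1 := S.xG_eq_one hr this
  linear_combination h1

theorem negX_mem_V (S : Struct D C) (i : Fin D.rank) (t : F) :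
    S.ok.xG (D.neg (D.simple i)) t ∈ D.negUnipotent F :=
  Subgroup.subset_closure ⟨_, t, S.isNeg_iff.2 (negSimple_half S i), S.ok.val_xG _ _⟩

theorem posX_mem_U (S : Struct D C) (i : Fin D.rank) (t : F) : S.ok.xG (D.simple i) t ∈ D.posUnipotent F :=
  S.xG_mem_U (simple_half S i) (simple_lt S i) t

/-- The root subgroup of a fundamental root, as a predicate. -/
def Xp (S : Struct D C) (i : Fin D.rank) (g : GL D.Idx F) : Prop := ∃ t, g = S.ok.xG (D.simple i) t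

/-- The root subgroup of the negative of a fundamental root, as a predicate. -/
def Xm (S : Struct D C) (i : Fin D.rank) (g : GL D.Idx F) : Prop := ∃ t, g = S.ok.xG (D.neg (D.simple i)) t

/-- `B ∪ B n_i B`. -/
def InPar (S : Struct D C) (i : Fin D.rank) (g : GL D.Idx F) : Prop :=
  g ∈ D.borelSubgroup F ∨ ∃ b ∈ D.borelSubgroup F, ∃ c ∈ D.borelSubgroup F,
    g = b * S.ok.nG (D.simple i) 1 * c

theorem exists_parSubgroup (S : Struct D C) (hN : okNeg D = true) (i : Fin D.rank) :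
    ∃ M : Subgroup (GL D.Idx F), ∀ g, g ∈ M ↔ InPar S i g := by
  obtain ⟨M, hM⟩ := S.exists_union hN i.isLt (n := S.ok.nG (D.simple i) (1 : F)) (S.ok.val_nG _ _)
  refine ⟨M, fun g => ?_⟩
  rw [← SetLike.mem_coe, hM]
  simp [InPar, DoubleCoset.mem_doubleCoset]

theorem inPar_nG (S : Struct D C) (hN : okNeg D = true) {i j : Fin D.rank}
    (h : InPar S i (S.ok.nG (D.simple j) (1 : F))) : i = j := by
  obtain ⟨P, hPB, hPN, hPS⟩ := S.exists_bnPair (F := F) (fun i j h => S.simple_ne hN i j h)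
  have hs : ∀ k : Fin D.rank, (⟨S.ok.nG (D.simple k) 1, S.ok.nG_mem_group _ _⟩ : ↥(D.group F)) ∈ P.S := fun k => by
    rw [hPS]; exact ⟨k, k.isLt, S.ok.val_nG _ _⟩
  rcases h with h | ⟨b, hb, c, hc, e⟩
  · exact absurd (show _ ∈ P.B by rw [hPB]; exact h) (Cfsg.Lib.BN.not_mem_B (hs j))
  · have hd : (⟨S.ok.nG (D.simple j) 1, S.ok.nG_mem_group _ _⟩ : ↥(D.group F)) ∈
        Cfsg.Lib.BN.dc P ⟨S.ok.nG (D.simple i) 1, S.ok.nG_mem_group _ _⟩ := by
      refine Cfsg.Lib.BN.mem_dc.2 ⟨⟨b, S.borel_le_group hb⟩, ?_, ⟨c, S.borel_le_group hc⟩, ?_, Subtype.ext e⟩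
      · rw [hPB]; exact hb
      · rw [hPB]; exact hc
    have hc := Cfsg.Lib.BN.cong_of_mem_dc (P.subset (hs j)) (P.subset (hs i)) hd
    exact (S.nG_inv_mul_mem (F := F) (fun i j h => S.simple_ne hN i j h) (by
      have h2 := hc.1
      rw [hPB] at h2
      exact h2)).symm

theorem exists_par_map (S : Struct D C) (hN : okNeg D = true) {η : MulAut ↥(D.group F)}
    (hB : Fixes η (D.borelSubgroup F)) (i : Fin D.rank) :
    ∃ j, ∀ x : ↥(D.group F), InPar S j (x : GL D.Idx F) → InPar S i ((η x : ↥(D.group F)) : GL D.Idx F) := by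
  obtain ⟨P, hPB, hPN, hPS⟩ := S.exists_bnPair (F := F) (fun i j h => S.simple_ne hN i j h)
  obtain ⟨M, hM⟩ := exists_parSubgroup (F := F) S hN i
  let W : Subgroup ↥(D.group F) := (M.subgroupOf (D.group F)).comap η.toMonoidHom
  have hW : ∀ x, x ∈ W ↔ InPar S i ((η x : ↥(D.group F)) : GL D.Idx F) := fun x => hM _
  have hBW : P.B ≤ W := by
    intro x hx
    rw [hPB] at hx
    exact (hW x).2 (Or.inl ((hB x).2 hx))
  have hne : ∃ s, s ∈ P.S ∧ s ∈ W := by
    by_contra hno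
    have he := Cfsg.Lib.BN.eq_parabolic hBW
    rw [show {s | s ∈ P.S ∧ s ∈ W} = (∅ : Set ↥(D.group F)) from
      Set.eq_empty_iff_forall_notMem.2 fun s hs => hno ⟨s, hs⟩, Cfsg.BNPair.parabolic, Subgroup.closure_empty,
      sup_bot_eq] at he
    obtain ⟨z, hz⟩ := η.surjective ⟨S.ok.nG (D.simple i) 1, S.ok.nG_mem_group _ _⟩
    have hzW : z ∈ W := (hW z).2 (by rw [hz]; exact Or.inr ⟨1, one_mem _, 1, one_mem _, by simp⟩)
    rw [he, hPB, Subgroup.mem_subgroupOf] at hzW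
    have h1 := (hB z).2 hzW
    rw [hz] at h1
    have hn : (⟨S.ok.nG (D.simple i) 1, S.ok.nG_mem_group _ _⟩ : ↥(D.group F)) ∈ P.S := by
      rw [hPS]; exact ⟨i, i.isLt, S.ok.val_nG _ _⟩
    exact Cfsg.Lib.BN.not_mem_B hn (by rw [hPB]; exact h1)
  obtain ⟨s, hs, hsW⟩ := hne
  rw [hPS] at hs
  obtain ⟨j, hj, hj'⟩ := hs
  refine ⟨⟨j, hj⟩, fun x hx => (hW x).1 ?_⟩
  have hsn : (s : GL D.Idx F) = S.ok.nG (D.simple j) 1 := Units.ext (by rw [hj', S.ok.val_nG])
  rcases hx with hx | ⟨b, hb, c, hc, e⟩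
  · exact hBW (by rw [hPB]; exact hx)
  · have hbW : (⟨b, S.borel_le_group hb⟩ : ↥(D.group F)) ∈ W := hBW (by rw [hPB]; exact hb)
    have hcW : (⟨c, S.borel_le_group hc⟩ : ↥(D.group F)) ∈ W := hBW (by rw [hPB]; exact hc)
    convert mul_mem (mul_mem hbW hsW) hcW using 1
    exact Subtype.ext (by rw [e]; simp [hsn])

theorem exists_par_eq (S : Struct D C) (hN : okNeg D = true) {η : MulAut ↥(D.group F)}
    (hB : Fixes η (D.borelSubgroup F)) (i : Fin D.rank) :
    ∃ j, ∀ x : ↥(D.group F), InPar S i ((η x : ↥(D.group F)) : GL D.Idx F) ↔ InPar S j (x : GL D.Idx F) := by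
  obtain ⟨j, hj⟩ := exists_par_map S hN hB i
  obtain ⟨k, hk⟩ := exists_par_map S hN hB.symm j
  let N : ↥(D.group F) := ⟨S.ok.nG (D.simple k) 1, S.ok.nG_mem_group _ _⟩
  have h1 := hj _ (hk N (Or.inr ⟨1, one_mem _, 1, one_mem _, by simp [N]⟩))
  rw [MulAut.apply_inv_self] at h1
  obtain rfl := inPar_nG S hN h1
  refine ⟨j, fun x => ⟨fun h => ?_, hj x⟩⟩
  have := hk _ h
  rwa [MulAut.inv_apply_self] at this

/-- `x₋(1/u) = x(u) h(-u) n x(u)`. -/
theorem negX_eq (S : Struct D C) (i : Fin D.rank) {u : F} (hu : u ≠ 0) :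
    S.ok.xG (D.neg (D.simple i)) u⁻¹ = S.ok.xG (D.simple i) u * S.ok.hG (D.simple i) (-u) *
      S.ok.nG (D.simple i) 1 * S.ok.xG (D.simple i) u := by
  rw [show S.ok.xG (D.simple i) u * S.ok.hG (D.simple i) (-u) * S.ok.nG (D.simple i) 1 =
    S.ok.xG (D.simple i) u * (S.ok.hG (D.simple i) (-u) * S.ok.nG (D.simple i) 1) from mul_assoc _ _ _,
    ← S.ok.nG_eq_hG_mul i.isLt (neg_ne_zero.2 hu), Ok.nG, inv_neg, neg_neg, ← S.ok.xG_inv]
  group

theorem negX_inPar (S : Struct D C) (i : Fin D.rank) (t : F) :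
    InPar S i (S.ok.xG (D.neg (D.simple i)) t) := by
  rcases eq_or_ne t 0 with rfl | ht
  · rw [S.xG_zero]; exact Or.inl (one_mem _)
  · refine Or.inr ⟨S.ok.xG (D.simple i) t⁻¹ * S.ok.hG (D.simple i) (-t⁻¹),
      mul_mem (S.B_le_of (posX_mem_U S i _)) (Subgroup.mem_sup_right (S.hG_mem_diag i.isLt
        (neg_ne_zero.2 (inv_ne_zero ht)))), S.ok.xG (D.simple i) t⁻¹, S.B_le_of (posX_mem_U S i _), ?_⟩
    conv_lhs => rw [← inv_inv t]
    exact negX_eq S i (inv_ne_zero ht)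

theorem xm_iff (S : Struct D C) (hN : okNeg D = true) {n₀ : GL D.Idx F} {w : Equiv.Perm (Fin D.nroots)}
    (O : Opp S F n₀ w) (i : Fin D.rank) (v : GL D.Idx F) :
    Xm S i v ↔ InPar S i v ∧ v ∈ D.negUnipotent F := by
  constructor
  · rintro ⟨t, rfl⟩
    exact ⟨negX_inPar S i t, negX_mem_V S i t⟩
  rintro ⟨h, hv⟩
  set n := S.ok.nG (D.simple i) (1 : F) with hn
  rcases h with h | ⟨b, hb, c, hc, rfl⟩
  · have : v ∈ D.borelSubgroup F ⊓ D.negUnipotent F := Subgroup.mem_inf.2 ⟨h, hv⟩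
    rw [S.B_inf_V hN, Subgroup.mem_bot] at this
    exact ⟨0, by rw [this, S.xG_zero]⟩
  obtain ⟨u, hu, d, hd, rfl⟩ := S.borel_decomp hc
  have hu' : d⁻¹ * u * d ∈ D.posUnipotent F := by
    have := (Subgroup.mem_normalizer_iff.1 (S.diag_normalises_U (inv_mem hd)) u).1 hu
    rwa [inv_inv] at this
  obtain ⟨ui, hui, t, et⟩ := S.U_split i hu'
  have hb' : b * (n * d * n⁻¹) * (n * ui * n⁻¹) ∈ D.borelSubgroup F :=
    mul_mem (mul_mem hb (Subgroup.mem_sup_right (S.norm_diag (S.nG_mem_mono i) hd)))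
      (S.B_le_of (S.nG_conj_Ui i hui))
  have ev : b * n * (u * d) = b * (n * d * n⁻¹) * (n * ui * n⁻¹) * (n * S.ok.xG (D.simple i) t) := by
    rw [← S.ok.sr_eq i.isLt, show u * d = d * (d⁻¹ * u * d) by group, et]
    group
  rw [ev] at hv ⊢
  set b' := b * (n * d * n⁻¹) * (n * ui * n⁻¹) with hb'e
  rcases eq_or_ne t 0 with rfl | ht
  · exfalso
    rw [S.xG_zero, mul_one] at hv
    have h1 : n₀⁻¹ * (b' * n) * n₀ ∈ D.posUnipotent F := by
      rw [← O.map_U]
      simpa [mul_assoc] using hv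
    have h2 := S.normal_form_cong hN hb' (one_mem _) (mul_mem (S.nG_mem_mono i) O.mem) O.mem (one_mem _) h1
      (show b' * (n * n₀) * 1 = 1 * n₀ * (n₀⁻¹ * (b' * n) * n₀) by group)
    have h3 : n⁻¹ ∈ D.diagonalSubgroup F := by
      have := S.norm_diag O.mem h2
      rwa [show n₀ * ((n * n₀)⁻¹ * n₀) * n₀⁻¹ = n⁻¹ by group] at this
    obtain ⟨P, hPB, hPN, hPS⟩ := S.exists_bnPair (F := F) (fun i j h => S.simple_ne hN i j h)
    have hs : (⟨n, S.ok.nG_mem_group _ _⟩ : ↥(D.group F)) ∈ P.S := by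
      rw [hPS]; exact ⟨i, i.isLt, S.ok.val_nG _ _⟩
    refine Cfsg.Lib.BN.not_mem_B hs ?_
    rw [hPB, Subgroup.mem_subgroupOf]
    exact Subgroup.mem_sup_right (inv_mem_iff.1 h3)
  · refine ⟨t⁻¹, ?_⟩
    have hx := negX_eq S i ht
    rw [← hn] at hx
    have hq : b' * (n * S.ok.xG (D.simple i) t) * (S.ok.xG (D.neg (D.simple i)) t⁻¹)⁻¹ ∈ D.borelSubgroup F := by
      rw [hx, show b' * (n * S.ok.xG (D.simple i) t) * (S.ok.xG (D.simple i) t * S.ok.hG (D.simple i) (-t) * n *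
        S.ok.xG (D.simple i) t)⁻¹ = b' * (S.ok.xG (D.simple i) t * S.ok.hG (D.simple i) (-t))⁻¹ by group]
      exact mul_mem hb' (inv_mem (mul_mem (S.B_le_of (posX_mem_U S i t))
        (Subgroup.mem_sup_right (S.hG_mem_diag i.isLt (neg_ne_zero.2 ht)))))
    have : b' * (n * S.ok.xG (D.simple i) t) * (S.ok.xG (D.neg (D.simple i)) t⁻¹)⁻¹ ∈
        D.borelSubgroup F ⊓ D.negUnipotent F :=
      Subgroup.mem_inf.2 ⟨hq, mul_mem hv (inv_mem (negX_mem_V S i _))⟩
    rw [S.B_inf_V hN, Subgroup.mem_bot] at this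
    exact mul_inv_eq_one.1 this

theorem exists_map_neg (S : Struct D C) (hN : okNeg D = true) {n₀ : GL D.Idx F} {w : Equiv.Perm (Fin D.nroots)}
    (O : Opp S F n₀ w) {θ : MulAut ↥(D.group F)} (hU : Fixes θ (D.posUnipotent F))
    (hV : Fixes θ (D.negUnipotent F)) :
    ∃ σ : Equiv.Perm (Fin D.rank), ∀ (i : Fin D.rank) (x : ↥(D.group F)),
      Xm S (σ i) ((θ x : ↥(D.group F)) : GL D.Idx F) ↔ Xm S i (x : GL D.Idx F) := by
  choose f hf using fun i => exists_par_eq S hN (fixes_B S hN hU) i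
  have hinj : Function.Injective f := by
    intro i k e
    let N : ↥(D.group F) := ⟨S.ok.nG (D.simple k) 1, S.ok.nG_mem_group _ _⟩
    obtain ⟨z, hz⟩ := θ.surjective N
    have h1 : InPar S (f k) (z : GL D.Idx F) := (hf k z).1 (by rw [hz]; exact Or.inr ⟨1, one_mem _, 1, one_mem _, by simp [N]⟩)
    rw [← e] at h1
    have h2 := (hf i z).2 h1
    rw [hz] at h2
    exact inPar_nG S hN h2
  refine ⟨(Equiv.ofBijective f (Finite.injective_iff_bijective.1 hinj)).symm, fun i x => ?_⟩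
  obtain ⟨k, rfl⟩ : ∃ k, f k = i := (Finite.injective_iff_bijective.1 hinj).2 i
  rw [show (Equiv.ofBijective f (Finite.injective_iff_bijective.1 hinj)).symm (f k) = k from
    Equiv.symm_apply_apply _ k, xm_iff S hN O, xm_iff S hN O, hf, hV]

theorem exists_opp_simple (hT : Tabs D C L T) :
    ∃ n₀ : GL D.Idx F, ∃ w : Equiv.Perm (Fin D.nroots), Opp hT.str F n₀ w ∧
      ∀ i : Fin D.rank, ∃ j : Fin D.rank, (w ⟨D.neg (D.simple i), negSimple_lt hT.str i⟩).val = D.simple j := by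
  have S := hT.str
  have hL := hT.opp
  simp only [Cert.okOpp, Bool.and_eq_true, kall_iff, beq_iff_eq] at hL
  obtain ⟨L', rfl⟩ : ∃ L' : List (Fin D.rank), L'.map (fun i => i.val) = L := by
    refine ⟨L.pmap (fun a ha => (⟨a, ha⟩ : Fin D.rank)) (fun a ha => S.ok.l_eq ▸ blt_true.1 (hL.1 a ha)), ?_⟩
    simp [List.map_pmap]
  refine ⟨S.nL F L', S.wpL L', ⟨S.nL_mem_mono L', S.act_nL L', fun s => ?_⟩, fun i => ?_⟩
  · have h1 := hL.2 s.val (by rw [krange_eq, List.mem_range'_1, S.ok.n_eq]; omega)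
    have e : Nat.div C.n 2 = D.nroots / 2 := by rw [S.ok.n_eq]; rfl
    rw [e, S.wWord_eq] at h1
    rw [← blt_true, h1, Nat.ble_eq]
  · have h := hT.oppSimple
    simp only [okOppSimple] at h
    have h1 := kall_krange h i.val (S.ok.l_eq.symm ▸ i.isLt)
    simp only [Bool.not_eq_true', ← Bool.not_eq_true, kall_iff, not_forall] at h1
    obtain ⟨j, hj, e⟩ := h1
    rw [krange_eq, List.mem_range'_1, S.ok.l_eq] at hj
    refine ⟨⟨j, by omega⟩, ?_⟩
    replace e := Nat.eq_of_beq_eq_true (not_not.1 e)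
    rw [S.ok.sr_eq i.isLt, S.ok.neg_eq (simple_lt S i), S.ok.sr_eq (show j < D.rank by omega)] at e
    show _ = D.simple j
    rw [← e, S.wWord_eq L' ⟨D.neg (D.simple i), negSimple_lt S i⟩]

theorem Opp.xp_iff (S : Struct D C) {n₀ : GL D.Idx F} {w : Equiv.Perm (Fin D.nroots)} (O : Opp S F n₀ w)
    {i j : Fin D.rank} (h : (w ⟨D.neg (D.simple i), negSimple_lt S i⟩).val = D.simple j) (g : GL D.Idx F) :
    Xp S j g ↔ Xm S i (n₀⁻¹ * g * n₀) := by
  obtain ⟨-, c, hc, e⟩ := O.act ⟨D.neg (D.simple i), negSimple_lt S i⟩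
  constructor
  · rintro ⟨t, rfl⟩
    refine ⟨c⁻¹ * t, ?_⟩
    have := (e (c⁻¹ * t)).1
    rw [h, ← mul_assoc, mul_inv_cancel₀ hc, one_mul] at this
    rw [← this]
    group
  · rintro ⟨t, ht⟩
    refine ⟨c * t, ?_⟩
    have := (e t).1
    rw [h] at this
    rw [← this]
    simp only
    rw [← ht]
    group

theorem xp_xm_comm (hT : Tabs D C L T) {i j : Fin D.rank} (hne : i ≠ j) {a b : GL D.Idx F}
    (ha : Xp hT.str i a) (hb : Xm hT.str j b) : a * b = b * a := by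
  obtain ⟨t, rfl⟩ := ha
  obtain ⟨u, rfl⟩ := hb
  have S := hT.str
  have h1 : D.neg (D.simple j) ≠ D.simple i := by
    have := negSimple_half S j
    have := simple_half S i
    omega
  have h2 : D.neg (D.simple j) ≠ D.neg (D.simple i) := fun e => hne (simple_inj S hT.neg (by
    have := congrArg D.neg e
    rwa [(S.neg_neg' (simple_lt S j)).2, (S.neg_neg' (simple_lt S i)).2, eq_comm] at this))
  have hc := kall_krange (kall_krange hT.commute i.val i.isLt) j.val j.isLt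
  simp only [Bool.or_eq_true, Nat.beq_eq, List.isEmpty_iff] at hc
  have hnil := hc.resolve_left fun e => hne (Fin.ext e)
  have := S.ok.commRel (F := F) S.chain S.base (simple_lt S i) (negSimple_lt S j) h1 h2 t u
  rw [ChevalleyDatum.commWord, hnil, List.map_nil] at this
  simpa [Ok.wG] using this.symm

theorem xp_xm_not_comm (S : Struct D C) (hN : okNeg D = true) (i : Fin D.rank) :
    S.ok.xG (D.simple i) (1 : F) * S.ok.xG (D.neg (D.simple i)) 1 ≠
      S.ok.xG (D.neg (D.simple i)) 1 * S.ok.xG (D.simple i) 1 := by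
  intro h
  set x := S.ok.xG (D.simple i) (1 : F)
  set y := S.ok.xG (D.neg (D.simple i)) (1 : F)
  have hn : S.ok.nG (D.simple i) (1 : F) = x * y⁻¹ * x := by
    rw [Ok.nG, inv_one, ← S.ok.xG_inv]
  have h1 := S.ok.conj_nG_xG (F := F) i.isLt (simple_lt S i) 1
  rw [hn, ← S.ok.sr_eq i.isLt, (S.ok.refl_simple i.isLt).1, S.ok.neg_eq (S.ok.sr_lt i.isLt), S.ok.sr_eq i.isLt] at h1
  have hxy : Commute x y := h
  have h2 : Commute (x * y⁻¹ * x) x := ((Commute.refl x).mul_left hxy.symm.inv_left).mul_left (Commute.refl x)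
  rw [h2.eq, mul_inv_cancel_right] at h1
  have h3 : x ∈ D.borelSubgroup F ⊓ D.negUnipotent F := by
    refine Subgroup.mem_inf.2 ⟨S.B_le_of (posX_mem_U S i 1), ?_⟩
    rw [h1]; exact negX_mem_V S i _
  rw [S.B_inf_V hN, Subgroup.mem_bot] at h3
  exact one_ne_zero (S.xG_eq_one (simple_lt S i) h3)

theorem exists_perm (hT : Tabs D C L T) {θ : MulAut ↥(D.group F)} (hU : Fixes θ (D.posUnipotent F))
    (hV : Fixes θ (D.negUnipotent F)) :
    ∃ π : Equiv.Perm (Fin D.rank), ∀ (i : Fin D.rank) (x : ↥(D.group F)),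
      (Xp hT.str (π i) ((θ x : ↥(D.group F)) : GL D.Idx F) ↔ Xp hT.str i (x : GL D.Idx F)) ∧
      (Xm hT.str (π i) ((θ x : ↥(D.group F)) : GL D.Idx F) ↔ Xm hT.str i (x : GL D.Idx F)) := by
  have S := hT.str
  obtain ⟨n₀, w, O, ho⟩ := exists_opp_simple (F := F) hT
  let N0 : ↥(D.group F) := ⟨n₀, O.mem_group⟩
  obtain ⟨π, hπ⟩ := exists_map_neg S hT.neg O hU hV
  let η : MulAut ↥(D.group F) := MulAut.conj N0⁻¹ * θ * MulAut.conj N0
  have hη : ∀ x, (η x : GL D.Idx F) = n₀⁻¹ * ((θ (N0 * x * N0⁻¹) : ↥(D.group F)) : GL D.Idx F) * n₀ := fun x => by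
    simp [η, N0]
  have hηU : Fixes η (D.posUnipotent F) := fun x => by
    rw [hη, ← O.map_U, show ∀ z : GL D.Idx F, n₀ * (n₀⁻¹ * z * n₀) * n₀⁻¹ = z from fun z => by group, hV]
    exact O.map_U _
  have hηV : Fixes η (D.negUnipotent F) := fun x => by
    rw [hη, ← O.map_V, show ∀ z : GL D.Idx F, n₀ * (n₀⁻¹ * z * n₀) * n₀⁻¹ = z from fun z => by group, hU]
    exact O.map_V _
  obtain ⟨σ, hσ⟩ := exists_map_neg S hT.neg O hηU hηV
  choose o ho using ho
  have hoinj : Function.Injective o := fun i k e => simple_inj S hT.neg (by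
    have h1 : w ⟨D.neg (D.simple i), negSimple_lt S i⟩ = w ⟨D.neg (D.simple k), negSimple_lt S k⟩ :=
      Fin.ext (by rw [ho, ho, e])
    have h2 := congrArg (fun r : Fin D.nroots => D.neg r.val) (w.injective h1)
    simp only [(S.neg_neg' (simple_lt S i)).2, (S.neg_neg' (simple_lt S k)).2] at h2
    exact h2)
  let oe := Equiv.ofBijective o (Finite.injective_iff_bijective.1 hoinj)
  let π' : Equiv.Perm (Fin D.rank) := (oe.symm.trans σ).trans oe
  have hπ' : ∀ (i : Fin D.rank) (x : ↥(D.group F)),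
      Xp S (π' i) ((θ x : ↥(D.group F)) : GL D.Idx F) ↔ Xp S i (x : GL D.Idx F) := by
    intro i x
    obtain ⟨k, rfl⟩ : ∃ k, o k = i := (Finite.injective_iff_bijective.1 hoinj).2 i
    rw [show π' (o k) = o (σ k) by
      show o (σ (oe.symm (oe k))) = _
      rw [Equiv.symm_apply_apply], O.xp_iff S (ho k), O.xp_iff S (ho (σ k))]
    have h1 := hσ k (N0⁻¹ * x * N0)
    rw [hη] at h1
    simpa [N0, mul_assoc] using h1
  have heq : π' = π := by
    refine Equiv.ext fun i => ?_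
    by_contra hne
    let x : ↥(D.group F) := ⟨S.ok.xG (D.simple i) 1, S.ok.xG_mem_group _ _⟩
    let y : ↥(D.group F) := ⟨S.ok.xG (D.neg (D.simple i)) 1, S.ok.xG_mem_group _ _⟩
    have h1 : θ x * θ y = θ y * θ x :=
      Subtype.ext (xp_xm_comm hT hne ((hπ' i x).2 ⟨1, rfl⟩) ((hπ i y).2 ⟨1, rfl⟩))
    rw [← map_mul, ← map_mul] at h1
    exact xp_xm_not_comm S hT.neg i (congrArg Subtype.val (θ.injective h1))
  exact ⟨π, fun i x => ⟨heq ▸ hπ' i x, hπ i x⟩⟩

end Cfsg.Lib.Known.ChevAut
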