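import Cfsg.Agent.Known.ChevAut.Decomp

/-! The diagram permutation of an automorphism and the kinds of automorphisms. -/

set_option autoImplicit false

open Cfsg.Lie Cfsg.Lib.Chev

namespace Cfsg.Lib.Known.ChevAut

variable {D : ChevalleyDatum} {C : Cert} {L : List ℕ} {T : List (List ℤ)} {F : Type*} [Field F]

theorem eq_top_of_gens (S : Struct D C) (W : Subgroup ↥(D.group F))
    (h1 : ∀ i t, gp S i t ∈ W) (h2 : ∀ i t, gm S i t ∈ W) : W = ⊤ := by
  set K : Subgroup (GL D.Idx F) := W.map (D.group F).subtype with hK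
  have hp : ∀ (i : Fin D.rank) (t : F), S.ok.xG (D.simple i.val) t ∈ K := fun i t => ⟨_, h1 i t, rfl⟩
  have hm : ∀ (i : Fin D.rank) t, S.ok.xG (D.neg (D.simple i.val)) t ∈ K := fun i t => ⟨_, h2 i t, rfl⟩
  have hn : ∀ i : Fin D.rank, S.ok.nG (D.simple i) (1 : F) ∈ K := fun i =>
    mul_mem (mul_mem (hp i 1) (hm i _)) (hp i 1)
  have hall : ∀ r < D.nroots, ∀ t : F, S.ok.xG r t ∈ K := by
    refine S.ok.root_induction (fun i hi => ⟨fun t => ?_, fun t => ?_⟩) fun i r hi hr ih => ?_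
    · rw [S.ok.sr_eq hi]; exact hp ⟨i, hi⟩ t
    · rw [S.ok.sr_eq hi, S.ok.neg_eq (simple_lt S ⟨i, hi⟩)]; exact hm ⟨i, hi⟩ t
    · intro t
      -- conjugate by the fundamental element
      have e := S.ok.conj_nG_xG (F := F) (i := i) hi (S.ok.w_lt hi hr) t
      rw [S.ok.w_w hi hr] at e
      first
        | (have e2 := S.ok.conj_nG_xG (F := F) (i := i) hi hr ((C.eta i r : F) * t)
           rw [← mul_assoc, Ok.eta_sq, one_mul] at e2
           rw [← e2]
           exact mul_mem (mul_mem (hn ⟨i, hi⟩) (ih _)) (inv_mem (hn ⟨i, hi⟩)))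
        | (have e2 := S.ok.conj_nG_xG (F := F) (i := i) hi (S.ok.w_lt hi hr) ((C.eta i (C.w i r) : F) * t)
           rw [← mul_assoc, Ok.eta_sq, one_mul, S.ok.w_w hi hr] at e2
           rw [← e2]
           exact mul_mem (mul_mem (hn ⟨i, hi⟩) (ih _)) (inv_mem (hn ⟨i, hi⟩)))
  rw [eq_top_iff]
  intro x _
  have hle : D.group F ≤ K := by
    refine (Subgroup.closure_le _).2 ?_
    rintro g ⟨r, t, hg⟩
    have hx : (g : Matrix D.Idx D.Idx F) = D.x F r t := by simpa [ChevalleyDatum.x] using hg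
    rw [S.ok.eq_xG hx]
    exact hall r r.isLt t
  obtain ⟨y, hy, e⟩ := hle x.2
  exact Subtype.ext e ▸ hy

theorem mulAut_ext (S : Struct D C) {η η' : MulAut ↥(D.group F)} (h1 : ∀ i t, η (gp S i t) = η' (gp S i t))
    (h2 : ∀ i t, η (gm S i t) = η' (gm S i t)) : η = η' := by
  have h := eq_top_of_gens S (η.toMonoidHom.eqLocus η'.toMonoidHom) h1 h2
  refine MulEquiv.ext fun x => ?_
  exact (show x ∈ η.toMonoidHom.eqLocus η'.toMonoidHom from h ▸ Subgroup.mem_top x)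

theorem fixes_of_le [Finite F] {η : MulAut ↥(D.group F)} {W : Subgroup (GL D.Idx F)}
    (h : ∀ x : ↥(D.group F), (x : GL D.Idx F) ∈ W → ((η x : ↥(D.group F)) : GL D.Idx F) ∈ W) :
    Fixes η W := by
  intro x
  refine ⟨fun hx => ?_, h x⟩
  let A := {y : ↥(D.group F) // (y : GL D.Idx F) ∈ W}
  haveI : Finite (GL D.Idx F) := inferInstance
  let e : A → A := fun y => ⟨η y.1, h _ y.2⟩
  have hs : Function.Surjective e := Finite.surjective_of_injective fun a b hab =>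
    Subtype.ext (η.injective (congrArg Subtype.val hab))
  obtain ⟨y, hy⟩ := hs ⟨η x, hx⟩
  exact η.injective (congrArg Subtype.val hy) ▸ y.2

theorem mapsTo_closure {η : MulAut ↥(D.group F)} {W : Subgroup (GL D.Idx F)} {s : Set (GL D.Idx F)}
    (hW : W = Subgroup.closure s) (hle : W ≤ D.group F)
    (h : ∀ x : ↥(D.group F), (x : GL D.Idx F) ∈ s → ((η x : ↥(D.group F)) : GL D.Idx F) ∈ W)
    (x : ↥(D.group F)) (hx : (x : GL D.Idx F) ∈ W) : ((η x : ↥(D.group F)) : GL D.Idx F) ∈ W := by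
  have key : W ≤ (((W.subgroupOf (D.group F)).comap η.toMonoidHom).map (D.group F).subtype) := by
    conv_lhs => rw [hW]
    refine (Subgroup.closure_le _).2 fun g hg => ?_
    exact ⟨⟨g, hle (hW ▸ Subgroup.subset_closure hg)⟩, h _ hg, rfl⟩
  obtain ⟨y, hy, e⟩ := key hx
  exact Subtype.ext e ▸ hy

theorem fixes_UV [Finite F] (S : Struct D C) {η : MulAut ↥(D.group F)}
    (h : ∀ r (_ : r < D.nroots) (t : F), ∃ q u, q < D.nroots ∧ (D.nroots / 2 ≤ q ↔ D.nroots / 2 ≤ r) ∧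
      ((η ⟨S.ok.xG r t, S.ok.xG_mem_group _ _⟩ : ↥(D.group F)) : GL D.Idx F) = S.ok.xG q u) :
    Fixes η (D.posUnipotent F) ∧ Fixes η (D.negUnipotent F) := by
  refine ⟨fixes_of_le (mapsTo_closure rfl (U_le_group S) ?_), fixes_of_le (mapsTo_closure rfl (V_le_group S) ?_)⟩
  · rintro ⟨g, hg'⟩ ⟨r, t, hr, hg⟩
    obtain ⟨a, b⟩ := S.isPos_iff.1 hr
    obtain rfl := S.ok.eq_xG hg
    obtain ⟨q, u, hq, hiff, e⟩ := h r b t
    rw [e]
    exact S.xG_mem_U (hiff.2 a) hq u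
  · rintro ⟨g, hg'⟩ ⟨r, t, hr, hg⟩
    obtain rfl := S.ok.eq_xG hg
    obtain ⟨q, u, hq, hiff, e⟩ := h r hr.1 t
    rw [e]
    refine Subgroup.subset_closure ⟨q, u, S.isNeg_iff.2 ?_, S.ok.val_xG _ _⟩
    have := S.isNeg_iff.1 hr
    omega

/-- `η` fixes `U` and `V` and maps the fundamental root subgroups by `π`. -/
def Shape (S : Struct D C) (η : MulAut ↥(D.group F)) (π : Equiv.Perm (Fin D.rank)) : Prop :=
  Fixes η (D.posUnipotent F) ∧ Fixes η (D.negUnipotent F) ∧ ∀ i t, ∃ u, η (gp S i t) = gp S (π i) u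

theorem xp_unique (S : Struct D C) (hN : okNeg D = true) {i j : Fin D.rank} {u v : F}
    (h : gp S i u = gp S j v) (hu : u ≠ 0) : i = j := by
  by_contra hne
  have h' : S.ok.xG (D.simple i) u = S.ok.xG (D.simple j) v := congrArg Subtype.val h
  have hmem : S.ok.xG (D.simple i) u ∈ S.Ui F i := by
    rw [h']
    exact Subgroup.subset_closure ⟨D.simple j, v, simple_half S j, simple_lt S j,
      fun e => hne (simple_inj S hN ((S.ok.sr_eq i.isLt) ▸ e.symm)), rfl⟩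
  have h1 := S.B_le_of (S.nG_conj_Ui i hmem)
  have hw : C.w i (D.simple i) = D.neg (D.simple i) := by
    rw [← S.ok.sr_eq i.isLt, (S.ok.refl_simple i.isLt).1, S.ok.neg_eq (S.ok.sr_lt i.isLt)]
  rw [S.ok.conj_nG_xG i.isLt (simple_lt S i), hw] at h1
  have h2 : S.ok.xG (D.neg (D.simple i)) ((C.eta i (D.simple i) : F) * u) ∈
      D.borelSubgroup F ⊓ D.negUnipotent F := Subgroup.mem_inf.2 ⟨h1, negX_mem_V S i _⟩
  rw [S.B_inf_V hN, Subgroup.mem_bot] at h2
  exact mul_ne_zero (Ok.eta_ne_zero C i _) hu (S.xG_eq_one (negSimple_lt S i) h2)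

theorem gp_one (S : Struct D C) (i : Fin D.rank) : gp S i (0 : F) = 1 := Subtype.ext (S.xG_zero _)

theorem Shape.mul {S : Struct D C} {η η' : MulAut ↥(D.group F)} {π π' : Equiv.Perm (Fin D.rank)}
    (h : Shape S η π) (h' : Shape S η' π') : Shape S (η * η') (π * π') := by
  refine ⟨h.1.mul h'.1, h.2.1.mul h'.2.1, fun i t => ?_⟩
  obtain ⟨u, hu⟩ := h'.2.2 i t
  obtain ⟨v, hv⟩ := h.2.2 (π' i) u
  exact ⟨v, by rw [MulAut.mul_apply, hu, hv]; rfl⟩

theorem Shape.unique {S : Struct D C} (hN : okNeg D = true) {η : MulAut ↥(D.group F)}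
    {π π' : Equiv.Perm (Fin D.rank)} (h : Shape S η π) (h' : Shape S η π') : π = π' := by
  refine Equiv.ext fun i => ?_
  obtain ⟨u, hu⟩ := h.2.2 i 1
  obtain ⟨v, hv⟩ := h'.2.2 i 1
  refine xp_unique S hN (hu.symm.trans hv) fun e => ?_
  rw [e, gp_one, ← map_one η] at hu
  exact one_ne_zero (gp_inj S i ((η.injective hu).trans (gp_one S i).symm))

theorem exists_shape (hT : Tabs D C L T) {η : MulAut ↥(D.group F)} (hU : Fixes η (D.posUnipotent F))
    (hV : Fixes η (D.negUnipotent F)) : ∃ π, Shape hT.str η π := by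
  obtain ⟨π, f, g, P⟩ := exists_param hT hU hV
  exact ⟨π, hU, hV, fun i t => ⟨f i t, P.pos i t⟩⟩

theorem Shape.symmetry [Finite F] (hT : Tabs D C L T) {η : MulAut ↥(D.group F)} {π : Equiv.Perm (Fin D.rank)}
    (h : Shape hT.str η π) : D.IsDiagramSymmetry π := by
  obtain ⟨π', f, g, P⟩ := exists_param hT h.1 h.2.1
  obtain rfl : π = π' := h.unique hT.neg ⟨h.1, h.2.1, fun i t => ⟨f i t, P.pos i t⟩⟩
  obtain ⟨n₀, w, O, -⟩ := exists_opp_simple (F := F) hT
  exact isDiagramSymmetry hT P (fixes_H hT.str hT.neg O h.1 h.2.1)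

theorem shape_conj_diag (S : Struct D C) {h : ↥(D.group F)}
    (hh : (h : GL D.Idx F) ∈ D.diagonalSubgroup F) : Shape S (MulAut.conj h) 1 := by
  refine ⟨fun x => ?_, fun x => ?_, fun i t => ?_⟩
  · exact (Subgroup.mem_normalizer_iff.1 (S.diag_normalises_U hh) _).symm
  · exact (Subgroup.mem_normalizer_iff.1 (S.diag_normalises_V hh) _).symm
  · obtain ⟨-, c, -, e⟩ := S.act_diag hh ⟨D.simple i, simple_lt S i⟩
    exact ⟨c * t, Subtype.ext (e t).1⟩

theorem mem_diag_of_fixes (hT : Tabs D C L T) {a : ↥(D.group F)}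
    (hU : Fixes (MulAut.conj a) (D.posUnipotent F)) (hV : Fixes (MulAut.conj a) (D.negUnipotent F)) :
    (a : GL D.Idx F) ∈ D.diagonalSubgroup F := by
  obtain ⟨n₀, w, O, -⟩ := exists_opp_simple (F := F) hT
  rw [← hT.str.B_inf_VH hT.neg]
  exact Subgroup.mem_inf.2 ⟨(mem_B_iff hT.str hT.neg a).2 fun y => (hU y).symm,
    (mem_VH_iff hT.str hT.neg O a).2 fun y => (hV y).symm⟩

/-- The diagram permutation attached to an automorphism, as a relation. -/
def Kind (S : Struct D C) (θ : MulAut ↥(D.group F)) (π : Equiv.Perm (Fin D.rank)) : Prop :=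
  ∃ a : ↥(D.group F), Shape S (MulAut.conj a * θ) π

theorem exists_kind [Finite F] (hT : Tabs D C L T) (θ : MulAut ↥(D.group F)) : ∃ π, Kind hT.str θ π := by
  obtain ⟨p, hp⟩ := CharP.exists F
  haveI := hp
  haveI : Fact p.Prime := ⟨CharP.char_is_prime F p⟩
  haveI := Fintype.ofFinite F
  obtain ⟨n₀, w, O, -⟩ := exists_opp_simple (F := F) hT
  obtain ⟨a, ha⟩ := exists_fix_U p hT.str hT.neg θ
  obtain ⟨b, hb1, hb2⟩ := exists_fix_V hT.str hT.neg O ha
  obtain ⟨π, hπ⟩ := exists_shape hT hb1 hb2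
  exact ⟨π, b * a, by rw [map_mul, mul_assoc]; exact hπ⟩

theorem Kind.unique (hT : Tabs D C L T) {θ : MulAut ↥(D.group F)} {π π' : Equiv.Perm (Fin D.rank)}
    (h : Kind hT.str θ π) (h' : Kind hT.str θ π') : π = π' := by
  obtain ⟨a, ha⟩ := h
  obtain ⟨b, hb⟩ := h'
  have e : MulAut.conj (b * a⁻¹) = MulAut.conj b * θ * (MulAut.conj a * θ)⁻¹ := by
    rw [map_mul, map_inv]; group
  have hd := mem_diag_of_fixes hT (a := b * a⁻¹) (e ▸ hb.1.mul ha.1.symm) (e ▸ hb.2.1.mul ha.2.1.symm)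
  have h1 := (shape_conj_diag hT.str hd).mul ha
  rw [one_mul, e, inv_mul_cancel_right] at h1
  exact h1.unique hT.neg hb

theorem Kind.mul (hT : Tabs D C L T) {θ θ' : MulAut ↥(D.group F)} {π π' : Equiv.Perm (Fin D.rank)}
    (h : Kind hT.str θ π) (h' : Kind hT.str θ' π') : Kind hT.str (θ * θ') (π * π') := by
  obtain ⟨a, ha⟩ := h
  obtain ⟨b, hb⟩ := h'
  refine ⟨a * θ b, ?_⟩
  have e : MulAut.conj (a * θ b) * (θ * θ') = MulAut.conj a * θ * (MulAut.conj b * θ') := by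
    ext x
    simp [map_mul, mul_assoc]
  rw [e]
  exact ha.mul hb

theorem Kind.of_shape {S : Struct D C} {θ : MulAut ↥(D.group F)} {π : Equiv.Perm (Fin D.rank)}
    (h : Shape S θ π) : Kind S θ π := ⟨1, by rw [map_one, one_mul]; exact h⟩

theorem kind_conj [Finite F] (S : Struct D C) (a : ↥(D.group F)) : Kind S (MulAut.conj a) 1 := by
  refine ⟨a⁻¹, ?_⟩
  rw [map_inv, inv_mul_cancel]
  exact ⟨fun x => Iff.rfl, fun x => Iff.rfl, fun i t => ⟨t, rfl⟩⟩

/-- The diagram permutation, as a homomorphism. -/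
noncomputable def diagHom [Finite F] (hT : Tabs D C L T) : MulAut ↥(D.group F) →* Equiv.Perm (Fin D.rank) :=
  MonoidHom.mk' (fun θ => Classical.choose (exists_kind hT θ)) fun θ θ' =>
    (Classical.choose_spec (exists_kind hT (θ * θ'))).unique hT
      ((Classical.choose_spec (exists_kind hT θ)).mul hT (Classical.choose_spec (exists_kind hT θ')))

theorem diagHom_eq [Finite F] (hT : Tabs D C L T) {θ : MulAut ↥(D.group F)} {π : Equiv.Perm (Fin D.rank)}
    (h : Kind hT.str θ π) : diagHom hT θ = π :=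
  (Classical.choose_spec (exists_kind hT θ)).unique hT h

theorem diagHom_symmetry [Finite F] (hT : Tabs D C L T) (θ : MulAut ↥(D.group F)) :
    D.IsDiagramSymmetry (diagHom hT θ) := by
  obtain ⟨a, ha⟩ := Classical.choose_spec (exists_kind hT θ)
  exact ha.symmetry hT

theorem field_apply (S : Struct D C) {φ : MulAut ↥(D.group F)} (hφ : D.IsFieldAut φ) :
    ∃ σ : F ≃+* F, ∀ r (_ : r < D.nroots) (t : F),
      φ ⟨S.ok.xG r t, S.ok.xG_mem_group _ _⟩ = ⟨S.ok.xG r (σ t), S.ok.xG_mem_group _ _⟩ := by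
  obtain ⟨σ, hσ⟩ := hφ
  exact ⟨σ, fun r hr t => Subtype.ext (Units.ext (hσ _ r t hr (S.ok.val_xG _ _)))⟩

theorem diag_apply (S : Struct D C) (hc : okChar D = true) {d : MulAut ↥(D.group F)} (hd : D.IsDiagonalAut d) :
    ∃ χ : ℕ → Fˣ, D.IsRootCharacter χ ∧ ∀ r (_ : r < D.nroots) (t : F),
      d ⟨S.ok.xG r t, S.ok.xG_mem_group _ _⟩ = ⟨S.ok.xG r ((χ r : F) * t), S.ok.xG_mem_group _ _⟩ := by
  obtain ⟨χ, hχ, h⟩ := hd
  refine ⟨χ, hχ, fun r hr t => Subtype.ext (Units.ext ?_)⟩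
  rw [h, S.ok.val_xG, S.ok.val_xG, charDiag_conj_x S.ok hc hχ hr]

theorem shape_of_root [Finite F] (S : Struct D C) {η : MulAut ↥(D.group F)}
    (h : ∀ r (_ : r < D.nroots) (t : F), ∃ u,
      η ⟨S.ok.xG r t, S.ok.xG_mem_group _ _⟩ = ⟨S.ok.xG r u, S.ok.xG_mem_group _ _⟩) : Shape S η 1 := by
  obtain ⟨hU, hV⟩ := fixes_UV S fun r hr t => by
    obtain ⟨u, hu⟩ := h r hr t
    exact ⟨r, u, hr, Iff.rfl, congrArg Subtype.val hu⟩
  exact ⟨hU, hV, fun i t => h _ (simple_lt S i) t⟩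

theorem shape_field [Finite F] (S : Struct D C) {φ : MulAut ↥(D.group F)} (hφ : D.IsFieldAut φ) :
    Shape S φ 1 := by
  obtain ⟨σ, h⟩ := field_apply S hφ
  exact shape_of_root S fun r hr t => ⟨_, h r hr t⟩

theorem shape_diag [Finite F] (S : Struct D C) (hc : okChar D = true) {d : MulAut ↥(D.group F)}
    (hd : D.IsDiagonalAut d) : Shape S d 1 := by
  obtain ⟨χ, -, h⟩ := diag_apply S hc hd
  exact shape_of_root S fun r hr t => ⟨_, h r hr t⟩

theorem graphExp_self (c : ℕ) (i : ℕ) : D.graphExp c i i = 1 := by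
  unfold ChevalleyDatum.graphExp
  cases D.isLong (D.simple i) <;> rfl

theorem graph_apply (S : Struct D C) {g : MulAut ↥(D.group F)} (hg : D.IsGraphAut g) :
    ∃ π, D.IsDiagramSymmetry π ∧ (∀ i t, g (gp S i t) = gp S (π i) (t ^ expo D F π i)) ∧
      ∀ i t, g (gm S i t) = gm S (π i) (t ^ expo D F π i) := by
  obtain ⟨π, hπ, h⟩ := hg
  exact ⟨π, hπ, fun i t => Subtype.ext (Units.ext ((h _ i t).1 (S.ok.val_xG _ _))),
    fun i t => Subtype.ext (Units.ext ((h _ i t).2 (S.ok.val_xG _ _)))⟩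

theorem decomp_kind [Finite F] (hT : Tabs D C L T) (θ : MulAut ↥(D.group F)) :
    ∃ a : ↥(D.group F), ∃ d g f : MulAut ↥(D.group F), D.IsDiagonalAut d ∧ D.IsGraphAut g ∧ D.IsFieldAut f ∧
      θ = MulAut.conj a * d * g * f ∧ (diagHom hT θ = 1 → g = 1) := by
  obtain ⟨a, ha⟩ := Classical.choose_spec (exists_kind hT θ)
  obtain ⟨d, g, f, hd, hg, hf, e, eg⟩ := decomp_fixing hT ha.1 ha.2.1
  refine ⟨a⁻¹, d, g, f, hd, hg, hf, ?_, fun h1 => ?_⟩
  · rw [map_inv, mul_assoc (MulAut.conj a)⁻¹, mul_assoc, ← e, inv_mul_cancel_left]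
  · have S := hT.str
    change Shape S (MulAut.conj a * θ) (diagHom hT θ) at ha
    rw [h1] at ha
    have hU : Fixes g (D.posUnipotent F) := eg ▸ ((shape_diag S hT.chr hd).1.symm.mul ha.1).mul (shape_field S hf).1.symm
    have hV : Fixes g (D.negUnipotent F) :=
      eg ▸ ((shape_diag S hT.chr hd).2.1.symm.mul ha.2.1).mul (shape_field S hf).2.1.symm
    obtain ⟨π, -, hp, hm⟩ := graph_apply S hg
    have hs : Shape S g π := ⟨hU, hV, fun i t => ⟨_, hp i t⟩⟩
    have hk := ((shape_diag S hT.chr hd).mul hs).mul (shape_field S hf)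
    rw [← e, one_mul, mul_one] at hk
    obtain rfl : π = 1 := hk.unique hT.neg ha
    refine mulAut_ext S (fun i t => ?_) fun i t => ?_
    · rw [hp]; simp [expo, graphExp_self]
    · rw [hm]; simp [expo, graphExp_self]

theorem inner_eq_field [Finite F] (hT : Tabs D C L T) (hr : 0 < D.rank) {a : ↥(D.group F)}
    {φ : MulAut ↥(D.group F)} {σ : F ≃+* F}
    (hσ : ∀ r (_ : r < D.nroots) (t : F),
      φ ⟨hT.str.ok.xG r t, hT.str.ok.xG_mem_group _ _⟩ = ⟨hT.str.ok.xG r (σ t), hT.str.ok.xG_mem_group _ _⟩)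
    (e : MulAut.conj a = φ) : σ = RingEquiv.refl F := by
  have S := hT.str
  have hs : Shape S φ 1 := shape_of_root S fun r hr t => ⟨_, hσ r hr t⟩
  have hd := mem_diag_of_fixes hT (a := a) (e ▸ hs.1) (e ▸ hs.2.1)
  obtain ⟨-, c, -, hc⟩ := S.act_diag hd ⟨D.simple (⟨0, hr⟩ : Fin D.rank), simple_lt S ⟨0, hr⟩⟩
  have key : ∀ t, σ t = c * t := fun t => by
    have h2 := congrArg (fun η : MulAut ↥(D.group F) => ((η (gp S ⟨0, hr⟩ t) : ↥(D.group F)) : GL D.Idx F)) e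
    simp only [gp] at h2
    rw [hσ _ (simple_lt S ⟨0, hr⟩)] at h2
    exact (xG_inj S (simple_lt S ⟨0, hr⟩) ((hc t).1.symm.trans h2)).symm
  have hc1 : c = 1 := by simpa using (key 1).symm
  exact RingEquiv.ext fun t => by rw [key, hc1, one_mul]; rfl

end Cfsg.Lib.Known.ChevAut
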