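import Cfsg.Agent.Known.ChevAut.OutCard
import Cfsg.Agent.Chev.Perfect
import Cfsg.Agent.Chev.Simple
import Cfsg.Agent.Chev.Types

/-!
The exceptional graph automorphisms of G2 in characteristic 3 and F4 in characteristic 2, read off from the action
on the ideal of the short roots and on the quotient by it.
-/

set_option autoImplicit false

open Cfsg.Lie Cfsg.Lib.Chev

namespace Cfsg.Lib.Known.ChevAut

/-- An involution of the coordinates exchanging the ideal with its complement, and the exponents. -/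
structure SData where
  /-- images of the coordinates -/
  img : List ℕ
  /-- `1` on the ideal -/
  ideal : List ℕ
  /-- exponents of the root elements -/
  ex : List ℕ

namespace SData

variable (Z : SData)

/-- The image of a coordinate. -/
noncomputable def im (a : ℕ) : ℕ := Z.img.getD a 0

/-- Membership in the ideal. -/
noncomputable def inI (a : ℕ) : Bool := Nat.beq (Z.ideal.getD a 0) 1

/-- The exponent of a root. -/
noncomputable def exAt (r : ℕ) : ℕ := Z.ex.getD r 0

/-- The image of a root. -/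
noncomputable def root (l r : ℕ) : ℕ := Nat.sub (Z.im (Nat.add l r)) l

/-- The terms of the quotient, transported. -/
noncomputable def quotT (L : List Tm) : List Tm :=
  kmap (fun e => ⟨0, e.j, Z.im e.r, Z.im e.c, e.k⟩) (kfilter (fun e => !Z.inI e.r && !Z.inI e.c) L)

/-- The terms of the ideal, with multiplied exponent. -/
noncomputable def idT (m : ℕ) (L : List Tm) : List Tm :=
  kmap (fun e => ⟨0, Nat.mul m e.j, e.r, e.c, e.k⟩) (kfilter (fun e => Z.inI e.r && Z.inI e.c) L)

/-- Coefficients reduced modulo `p`. -/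
noncomputable def redT (p : ℕ) (L : List Tm) : List Tm :=
  kfilter (fun e => !decide (e.k = 0)) (kmap (fun e => ⟨e.i, e.j, e.r, e.c, e.k % (p : ℤ)⟩) L)

/-- The certificate. -/
noncomputable def ok (C : Cert) (p : ℕ) : Bool :=
  let N := Nat.add C.l C.n
  kall (fun a => Nat.blt (Z.im a) N && Nat.beq (Z.im (Z.im a)) a && (Z.inI (Z.im a) == !Z.inI a) &&
    (Nat.blt (Z.im a) C.l == Nat.blt a C.l)) (krange 0 N) &&
  kall (fun r => (Nat.beq (Z.exAt r) 1 || Nat.beq (Z.exAt r) p) &&
    kall (fun e => Z.inI e.r || !Z.inI e.c || decide (e.k % (p : ℤ) = 0)) (C.row r) &&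
    eqTest 5 (redT p (Z.quotT (C.row r))) (redT p (Z.idT (Z.exAt r) (C.row (Z.root C.l r))))) (krange 0 C.n)

variable {D : ChevalleyDatum} {C : Cert} {F : Type*} [Field F] {p : ℕ}

theorem spec (S : Struct D C) (hZ : Z.ok C p = true) {a : ℕ} (ha : a < D.rank + D.nroots) :
    Z.im a < D.rank + D.nroots ∧ Z.im (Z.im a) = a ∧ Z.inI (Z.im a) = !Z.inI a ∧
      (Z.im a < D.rank ↔ a < D.rank) := by
  simp only [ok, Bool.and_eq_true] at hZ
  have h0 := kall_krange hZ.1 a (by rw [S.ok.l_eq, S.ok.n_eq]; exact ha)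
  simp only [Bool.and_eq_true, beq_iff_eq, S.ok.l_eq, S.ok.n_eq, Nat.add_eq] at h0
  obtain ⟨⟨⟨a1, a2⟩, a3⟩, a4⟩ := h0
  refine ⟨blt_true.1 a1, Nat.eq_of_beq_eq_true a2, a3, ?_⟩
  rw [← blt_true, a4, blt_true]

theorem spec_root (S : Struct D C) (hZ : Z.ok C p = true) {r : ℕ} (hr : r < D.nroots) :
    Z.root D.rank r < D.nroots ∧ (Z.exAt r = 1 ∨ Z.exAt r = p) := by
  obtain ⟨a1, -, -, a4⟩ := Z.spec S hZ (show D.rank + r < D.rank + D.nroots by omega)
  simp only [ok, Bool.and_eq_true, Bool.or_eq_true] at hZ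
  have h := kall_krange hZ.2 r (S.ok.n_eq.symm ▸ hr)
  simp only [Bool.and_eq_true, Bool.or_eq_true, Nat.beq_eq] at h
  refine ⟨?_, h.1.1⟩
  show Z.im (D.rank + r) - D.rank < D.nroots
  have : ¬ Z.im (D.rank + r) < D.rank := fun hh => by have := a4.1 hh; omega
  omega

/-- The coordinates of the ideal. -/
abbrev IdIdx (D : ChevalleyDatum) : Type := {x : D.Idx // Z.inI (enc D.rank D.nroots x) = true}

/-- The transported coordinate. -/
noncomputable def sw (S : Struct D C) (hZ : Z.ok C p = true) (x : D.Idx) : D.Idx :=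
  GTab.dec D (Z.im (enc _ _ x)) (Z.spec S hZ (enc_lt _ _ x)).1

theorem enc_sw (S : Struct D C) (hZ : Z.ok C p = true) (x : D.Idx) :
    enc D.rank D.nroots (Z.sw S hZ x) = Z.im (enc _ _ x) :=
  GTab.enc_dec D (Z.spec S hZ (enc_lt _ _ x)).1

theorem sw_sw (S : Struct D C) (hZ : Z.ok C p = true) (x : D.Idx) : Z.sw S hZ (Z.sw S hZ x) = x :=
  enc_injective _ _ (by rw [enc_sw, enc_sw, (Z.spec S hZ (enc_lt _ _ x)).2.1])

theorem inI_sw (S : Struct D C) (hZ : Z.ok C p = true) (x : D.Idx) :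
    Z.inI (enc D.rank D.nroots (Z.sw S hZ x)) = !Z.inI (enc _ _ x) := by
  rw [enc_sw, (Z.spec S hZ (enc_lt _ _ x)).2.2.1]

/-- The matrix preserves the ideal. -/
def Stable (D : ChevalleyDatum) (M : Matrix D.Idx D.Idx F) : Prop :=
  ∀ x y, Z.inI (enc D.rank D.nroots x) = false → Z.inI (enc D.rank D.nroots y) = true → M x y = 0

theorem Stable.one : Z.Stable (F := F) D 1 := fun x y hx hy =>
  Matrix.one_apply_ne fun e => by rw [e, hy] at hx; exact Bool.noConfusion hx

theorem Stable.mul {M N : Matrix D.Idx D.Idx F} (hM : Z.Stable D M) (hN : Z.Stable D N) : Z.Stable D (M * N) := by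
  intro x y hx hy
  rw [Matrix.mul_apply]
  refine Finset.sum_eq_zero fun z _ => ?_
  cases hz : Z.inI (enc D.rank D.nroots z)
  · rw [hN z y hz hy, mul_zero]
  · rw [hM x z hx hz, zero_mul]

/-- The action on the ideal. -/
def onI (M : Matrix D.Idx D.Idx F) : Matrix (Z.IdIdx D) (Z.IdIdx D) F := M.submatrix Subtype.val Subtype.val

/-- The action on the quotient, transported. -/
noncomputable def onQ (S : Struct D C) (hZ : Z.ok C p = true) (M : Matrix D.Idx D.Idx F) :
    Matrix (Z.IdIdx D) (Z.IdIdx D) F :=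
  M.submatrix (fun x => Z.sw S hZ x.1) fun x => Z.sw S hZ x.1

theorem onI_mul {M N : Matrix D.Idx D.Idx F} (hN : Z.Stable D N) : Z.onI (M * N) = Z.onI M * Z.onI N := by
  ext x y
  simp only [onI, Matrix.submatrix_apply, Matrix.mul_apply]
  rw [← Fintype.sum_subtype_add_sum_subtype (fun z : D.Idx => Z.inI (enc D.rank D.nroots z) = true)]
  rw [show (∑ z : {z : D.Idx // ¬ Z.inI (enc D.rank D.nroots z) = true}, M x.1 z.1 * N z.1 y.1) = 0 from
    Finset.sum_eq_zero fun z _ => by rw [hN z.1 y.1 (Bool.eq_false_iff.2 z.2) y.2, mul_zero], add_zero]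

theorem onQ_mul (S : Struct D C) (hZ : Z.ok C p = true) {M N : Matrix D.Idx D.Idx F} (hM : Z.Stable D M) :
    Z.onQ S hZ (M * N) = Z.onQ S hZ M * Z.onQ S hZ N := by
  ext x y
  simp only [onQ, Matrix.submatrix_apply, Matrix.mul_apply]
  refine (Fintype.sum_of_injective (fun z : Z.IdIdx D => Z.sw S hZ z.1) ?_ _ _ (fun z hz => ?_) fun z => rfl).symm
  · intro a b e
    exact Subtype.ext (by have := congrArg (Z.sw S hZ) e; rwa [sw_sw, sw_sw] at this)
  · have hzI : Z.inI (enc D.rank D.nroots z) = true := by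
      by_contra hc
      exact hz ⟨⟨Z.sw S hZ z, by rw [inI_sw, Bool.eq_false_iff.2 hc]; rfl⟩, Z.sw_sw S hZ z⟩
    rw [hM _ _ (by rw [inI_sw, x.2]; rfl) hzI, zero_mul]

theorem ev_redT [CharP F p] (t u : F) (l n : ℕ) : ∀ L : List Tm, ev l n t u (redT p L) = ev l n t u L := by
  intro L
  rw [redT, kfilter_eq, kmap_eq]
  induction L with
  | nil => simp
  | cons a L ih =>
    have hk : ((a.k % (p : ℤ) : ℤ) : F) = (a.k : F) := by
      conv_rhs => rw [← Int.emod_add_ediv_mul a.k p]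
      push_cast
      rw [CharP.cast_eq_zero F p, mul_zero, add_zero]
    rw [List.map_cons, List.filter_cons, ev_cons]
    by_cases h : a.k % (p : ℤ) = 0
    · have h0 : (a.k : F) = 0 := by rw [← hk, h, Int.cast_zero]
      simp [h, ih, evT, h0]
    · simp [h, ih, evT, hk]

theorem stable_x [CharP F p] (S : Struct D C) (hZ : Z.ok C p = true) {r : ℕ} (hr : r < D.nroots) (t : F) :
    Z.Stable D (D.x F r t) := by
  intro x y hx hy
  have hne : x ≠ y := fun e => by rw [e, hy] at hx; exact Bool.noConfusion hx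
  simp only [ok, Bool.and_eq_true] at hZ
  have h := kall_krange hZ.2 r (S.ok.n_eq.symm ▸ hr)
  simp only [Bool.and_eq_true, kall_iff, Bool.or_eq_true, Bool.not_eq_true', decide_eq_true_eq] at h
  rw [S.ok.x_eq hr, S.ok.xR_eq hr, Matrix.add_apply, Matrix.one_apply_ne hne, zero_add, ev_map_entry]
  refine List.sum_eq_zero fun z hz => ?_
  obtain ⟨e, he, rfl⟩ := List.mem_map.1 hz
  split_ifs with hh
  · rcases h.1.2 e he with (h1 | h1) | h1
    · rw [hh.1, h1] at hx; exact Bool.noConfusion hx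
    · rw [hh.2, h1] at hy; exact Bool.noConfusion hy
    · rw [(CharP.intCast_eq_zero_iff F p e.k).2 (Int.dvd_of_emod_eq_zero h1), zero_mul]
  · rfl

theorem onQ_x [CharP F p] (S : Struct D C) (hZ : Z.ok C p = true) {r : ℕ} (hr : r < D.nroots) (t : F) :
    Z.onQ S hZ (D.x F r t) = Z.onI (D.x F (Z.root D.rank r) (t ^ Z.exAt r)) := by
  have hq := (Z.spec_root S hZ hr).1
  have h0 := hZ
  simp only [ok, Bool.and_eq_true] at h0
  have h := kall_krange h0.2 r (S.ok.n_eq.symm ▸ hr)
  simp only [Bool.and_eq_true] at h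
  have h1 := eqTest_sound D.rank D.nroots (0 : F) t h.2
  rw [ev_redT, ev_redT, S.ok.l_eq] at h1
  ext x y
  have h2 := congrArg (fun M : Matrix D.Idx D.Idx F => M x.1 y.1) h1
  simp only [onQ, onI, Matrix.submatrix_apply]
  rw [S.ok.x_eq hr, S.ok.x_eq hq, S.ok.xR_eq hr, S.ok.xR_eq hq, Matrix.add_apply, Matrix.add_apply]
  congr 1
  · by_cases e : x.1 = y.1
    · rw [e, Matrix.one_apply_eq, Matrix.one_apply_eq]
    · rw [Matrix.one_apply_ne e, Matrix.one_apply_ne fun e' => e (by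
        have := congrArg (Z.sw S hZ) e'; rwa [sw_sw, sw_sw] at this)]
  · simp only [quotT, idT, kmap_eq, kfilter_eq, ev_map_entry, List.map_map] at h2
    rw [ev_map_entry, ev_map_entry]
    have hA : ∀ L : List Tm, (∀ e ∈ L, e.i = 0 ∧ e.r < D.rank + D.nroots ∧ e.c < D.rank + D.nroots) →
        (L.map fun e => if enc D.rank D.nroots (Z.sw S hZ x.1) = e.r ∧ enc D.rank D.nroots (Z.sw S hZ y.1) = e.c
          then (e.k : F) * (0 ^ e.i * t ^ e.j) else 0).sum =
        ((L.filter fun e => !Z.inI e.r && !Z.inI e.c).map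
          ((fun e => if enc D.rank D.nroots x.1 = e.r ∧ enc D.rank D.nroots y.1 = e.c
            then (e.k : F) * (0 ^ e.i * t ^ e.j) else 0) ∘
            fun e => (⟨0, e.j, Z.im e.r, Z.im e.c, e.k⟩ : Tm))).sum := by
      intro L
      induction L with
      | nil => simp
      | cons a L ih =>
        intro hL
        simp only [List.forall_mem_cons] at hL
        obtain ⟨⟨hi, hr', hc'⟩, hL⟩ := hL
        have hiff : ∀ (z : Z.IdIdx D) (c : ℕ), c < D.rank + D.nroots →
            (enc D.rank D.nroots (Z.sw S hZ z.1) = c ↔ (Z.inI c = false ∧ enc D.rank D.nroots z.1 = Z.im c)) := by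
          intro z c hc
          rw [enc_sw]
          constructor
          · rintro rfl
            exact ⟨by rw [(Z.spec S hZ (enc_lt _ _ z.1)).2.2.1, z.2]; rfl,
              ((Z.spec S hZ (enc_lt _ _ z.1)).2.1).symm⟩
          · rintro ⟨-, e⟩
            rw [e, (Z.spec S hZ hc).2.1]
        rw [List.map_cons, List.sum_cons, ih hL, List.filter_cons]
        by_cases hb : (!Z.inI a.r && !Z.inI a.c) = true
        · rw [if_pos hb, List.map_cons, List.sum_cons]
          simp only [Bool.and_eq_true, Bool.not_eq_true'] at hb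
          simp only [Function.comp_apply, hiff _ _ hr', hiff _ _ hc', hb.1, hb.2, true_and, hi]
        · rw [if_neg hb, if_neg, zero_add]
          rw [hiff _ _ hr', hiff _ _ hc']
          rintro ⟨⟨u1, -⟩, u2, -⟩
          simp [u1, u2] at hb
    have hB : ∀ L : List Tm, (∀ e ∈ L, e.i = 0) →
        (L.map fun e => if enc D.rank D.nroots x.1 = e.r ∧ enc D.rank D.nroots y.1 = e.c
          then (e.k : F) * (0 ^ e.i * (t ^ Z.exAt r) ^ e.j) else 0).sum =
        ((L.filter fun e => Z.inI e.r && Z.inI e.c).map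
          ((fun e => if enc D.rank D.nroots x.1 = e.r ∧ enc D.rank D.nroots y.1 = e.c
            then (e.k : F) * (0 ^ e.i * t ^ e.j) else 0) ∘
            fun e => (⟨0, Nat.mul (Z.exAt r) e.j, e.r, e.c, e.k⟩ : Tm))).sum := by
      intro L
      induction L with
      | nil => simp
      | cons a L ih =>
        intro hL
        simp only [List.forall_mem_cons] at hL
        rw [List.map_cons, List.sum_cons, ih hL.2, List.filter_cons]
        by_cases hb : (Z.inI a.r && Z.inI a.c) = true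
        · rw [if_pos hb, List.map_cons, List.sum_cons]
          simp only [Function.comp_apply, hL.1, Nat.mul_eq, pow_mul]
        · rw [if_neg hb, if_neg, zero_add]
          rintro ⟨u1, u2⟩
          apply hb
          rw [← u1, ← u2, x.2, y.2]
          rfl
    rw [hA _ fun e he => ⟨S.ok.row_i_zero hr e he, S.ok.row_range hr e he⟩, hB _ (S.ok.row_i_zero hq)]
    exact h2

theorem stable_group [CharP F p] (S : Struct D C) (hZ : Z.ok C p = true) {g : GL D.Idx F} (hg : g ∈ D.group F) :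
    Z.Stable D (g : Matrix D.Idx D.Idx F) := by
  suffices h : Z.Stable D (g : Matrix D.Idx D.Idx F) ∧ Z.Stable D ((g⁻¹ : GL D.Idx F) : Matrix D.Idx D.Idx F) from h.1
  refine Subgroup.closure_induction (fun g hg => ?_) ⟨Stable.one Z, by rw [inv_one]; exact Stable.one Z⟩
    (fun a b _ _ ha hb => ⟨Stable.mul Z ha.1 hb.1, by rw [mul_inv_rev, Units.val_mul]; exact Stable.mul Z hb.2 ha.2⟩)
    (fun a _ ha => ⟨ha.2, by rw [inv_inv]; exact ha.1⟩) hg
  obtain ⟨r, t, hgr⟩ := hg
  have hx : (g : Matrix D.Idx D.Idx F) = D.x F r t := by simpa [ChevalleyDatum.x] using hgr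
  rw [S.ok.eq_xG hx, S.ok.xG_inv]
  exact ⟨Z.stable_x S hZ r.isLt t, Z.stable_x S hZ r.isLt (-t)⟩

theorem exists_special [Finite F] [CharP F p] (S : Struct D C) (hZ : Z.ok C p = true) (hp : p.Prime)
    (hs : IsSimpleGroup ↥(D.group F)) (hr0 : 0 < D.rank)
    (hsw : ∃ x y : D.Idx, Z.inI (enc D.rank D.nroots x) = true ∧ Z.inI (enc D.rank D.nroots y) = true ∧
      ∃ r, r < D.nroots ∧ D.x F r (1 : F) x y ≠ (1 : Matrix D.Idx D.Idx F) x y) :
    ∃ θ : MulAut ↥(D.group F), ∀ r (hr : r < D.nroots) (t : F),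
      ((θ ⟨S.ok.xG r t, S.ok.xG_mem_group _ _⟩ : ↥(D.group F)) : GL D.Idx F) =
        S.ok.xG (Z.root D.rank r) (t ^ Z.exAt r) := by
  classical
  let A : ↥(D.group F) →* Matrix (Z.IdIdx D) (Z.IdIdx D) F :=
    { toFun := fun g => Z.onQ S hZ ((g : GL D.Idx F) : Matrix D.Idx D.Idx F)
      map_one' := by
        ext x y
        simp only [onQ, Subgroup.coe_one, Units.val_one, Matrix.submatrix_apply]
        by_cases e : x = y
        · subst e; simp
        · rw [Matrix.one_apply_ne e, Matrix.one_apply_ne fun e' => e (Subtype.ext (by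
            have := congrArg (Z.sw S hZ) e'; rwa [sw_sw, sw_sw] at this))]
      map_mul' := fun a b => Z.onQ_mul S hZ (Z.stable_group S hZ a.2) }
  let B : ↥(D.group F) →* Matrix (Z.IdIdx D) (Z.IdIdx D) F :=
    { toFun := fun g => Z.onI ((g : GL D.Idx F) : Matrix D.Idx D.Idx F)
      map_one' := by
        ext x y
        simp only [onI, Subgroup.coe_one, Units.val_one, Matrix.submatrix_apply]
        by_cases e : x = y
        · subst e; simp
        · rw [Matrix.one_apply_ne e, Matrix.one_apply_ne fun e' => e (Subtype.ext e')]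
      map_mul' := fun a b => Z.onI_mul (Z.stable_group S hZ b.2) }
  have hBinj : Function.Injective B := by
    rcases hs.eq_bot_or_eq_top_of_normal B.ker inferInstance with h | h
    · exact (MonoidHom.ker_eq_bot_iff B).1 h
    · exfalso
      obtain ⟨x, y, hx, hy, r, hr, hne⟩ := hsw
      have hm : B ⟨S.ok.xG r 1, S.ok.xG_mem_group _ _⟩ = 1 := MonoidHom.mem_ker.1 (h ▸ Subgroup.mem_top _)
      have e := congrFun (congrFun hm ⟨x, hx⟩) ⟨y, hy⟩
      change D.x F r (1 : F) x y = _ at e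
      apply hne
      rw [e]
      by_cases h' : x = y
      · subst h'; simp
      · rw [Matrix.one_apply_ne fun e' => h' (congrArg Subtype.val e'), Matrix.one_apply_ne h']
  have hex : ∀ g, ∃ g', B g' = A g := by
    let W : Subgroup ↥(D.group F) :=
      { carrier := {g | ∃ g', B g' = A g}
        one_mem' := ⟨1, by rw [map_one, map_one]⟩
        mul_mem' := by rintro a b ⟨a', ha⟩ ⟨b', hb⟩; exact ⟨a' * b', by rw [map_mul, map_mul, ha, hb]⟩
        inv_mem' := by
          rintro a ⟨a', ha⟩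
          refine ⟨a'⁻¹, ?_⟩
          calc B a'⁻¹ = B a'⁻¹ * (A a * A a⁻¹) := by rw [← map_mul, mul_inv_cancel, map_one, mul_one]
            _ = A a⁻¹ := by rw [← ha, ← mul_assoc, ← map_mul, inv_mul_cancel, map_one, one_mul] }
    have hW : W = ⊤ := eq_top_of_gens S W
      (fun i t => ⟨⟨_, S.ok.xG_mem_group _ _⟩, (Z.onQ_x S hZ (simple_lt S i) t).symm⟩)
      (fun i t => ⟨⟨_, S.ok.xG_mem_group _ _⟩, (Z.onQ_x S hZ (negSimple_lt S i) t).symm⟩)
    exact fun g => show g ∈ W from hW ▸ Subgroup.mem_top g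
  choose θf hθf using hex
  let θ : ↥(D.group F) →* ↥(D.group F) := MonoidHom.mk' θf fun a b => hBinj (by
    rw [map_mul, hθf, hθf, hθf, map_mul])
  have himg : ∀ r (hr : r < D.nroots) (t : F), θ ⟨S.ok.xG r t, S.ok.xG_mem_group _ _⟩ =
      ⟨S.ok.xG (Z.root D.rank r) (t ^ Z.exAt r), S.ok.xG_mem_group _ _⟩ := fun r hr t =>
    hBinj ((hθf _).trans (Z.onQ_x S hZ hr t))
  have hinj : Function.Injective θ := by
    rcases hs.eq_bot_or_eq_top_of_normal θ.ker inferInstance with h | h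
    · exact (MonoidHom.ker_eq_bot_iff θ).1 h
    · exfalso
      have h1 := himg _ (simple_lt S ⟨0, hr0⟩) 1
      rw [show θ _ = 1 from MonoidHom.mem_ker.1 (h ▸ Subgroup.mem_top _)] at h1
      refine one_ne_zero (α := F) ?_
      rw [← one_pow (M := F) (Z.exAt (D.simple 0))]
      exact S.xG_eq_one (Z.spec_root S hZ (simple_lt S ⟨0, hr0⟩)).1 (congrArg Subtype.val h1).symm
  exact ⟨MulEquiv.ofBijective θ ⟨hinj, Finite.surjective_of_injective hinj⟩,
    fun r hr t => congrArg Subtype.val (himg r hr t)⟩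

theorem mem_range [Finite F] [CharP F p] {L : List ℕ} {T : List (List ℤ)} (hT : Tabs D C L T) (hZ : Z.ok C p = true)
    {θ : MulAut ↥(D.group F)}
    (hθ : ∀ r (hr : r < D.nroots) (t : F),
      ((θ ⟨hT.str.ok.xG r t, hT.str.ok.xG_mem_group _ _⟩ : ↥(D.group F)) : GL D.Idx F) =
        hT.str.ok.xG (Z.root D.rank r) (t ^ Z.exAt r))
    (hpos : ∀ r : Fin D.nroots, (D.nroots / 2 ≤ Z.root D.rank r.val ↔ D.nroots / 2 ≤ r.val))
    (π : Equiv.Perm (Fin D.rank)) (hπ : ∀ i : Fin D.rank, Z.root D.rank (D.simple i) = D.simple (π i)) :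
    π ∈ (diagHom (F := F) hT).range := by
  obtain ⟨hU, hV⟩ := fixes_UV hT.str (η := θ) fun r hr t =>
    ⟨Z.root D.rank r, _, (Z.spec_root hT.str hZ hr).1, hpos ⟨r, hr⟩, hθ r hr t⟩
  refine ⟨θ, diagHom_eq hT (Kind.of_shape ⟨hU, hV, fun i t => ⟨t ^ Z.exAt (D.simple i), Subtype.ext ?_⟩⟩)⟩
  rw [gp, hθ _ (simple_lt hT.str i) t, hπ]
  rfl

end SData

/-- The data for G2. -/
noncomputable def g2Special : SData where
  img := [1, 0, 4, 5, 2, 3, 7, 6, 9, 8, 12, 13, 10, 11]
  ideal := [1, 0, 0, 0, 1, 1, 1, 0, 0, 1, 1, 1, 0, 0]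
  ex := [1, 1, 3, 3, 3, 1, 1, 3, 3, 3, 1, 1]

theorem g2Special_ok : g2Special.ok G2.cert 3 = true := by decide +kernel

/-- The data for F4. -/
noncomputable def f4Special : SData where
  img := [3, 2, 1, 0, 7, 11, 12, 4, 13, 15, 22, 5, 6, 8, 19, 9, 20, 25, 27, 14, 16, 23, 10, 21, 26, 17, 24, 18, 37,
    31, 38, 29, 34, 45, 32, 39, 41, 28, 30, 35, 46, 36, 47, 49, 50, 33, 40, 42, 51, 43, 44, 48]
  ideal := [1, 1, 0, 0, 0, 0, 0, 1, 0, 0, 0, 1, 1, 1, 1, 1, 1, 1, 1, 0, 0, 0, 1, 1, 1, 0, 0, 0, 0, 0, 0, 1, 1, 1, 0,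
    0, 0, 1, 1, 1, 1, 1, 1, 1, 1, 0, 0, 0, 1, 0, 0, 0]
  ex := [1, 1, 1, 2, 1, 1, 1, 2, 2, 2, 2, 2, 2, 2, 2, 1, 1, 1, 2, 2, 2, 1, 1, 1, 1, 1, 1, 2, 2, 2, 1, 1, 1, 2, 2, 2, 2,
    2, 2, 2, 2, 1, 1, 1, 2, 1, 1, 1]

theorem f4Special_ok : f4Special.ok F4.cert 2 = true := by decide +kernel

end Cfsg.Lib.Known.ChevAut
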