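import Cfsg.Agent.Known.ChevAut.Special

/-! When the diagram of G2 or F4 is reversed by an automorphism. -/

set_option autoImplicit false

open Cfsg.Lie Cfsg.Lib.Chev

namespace Cfsg.Lib.Known.ChevAut

theorem symmetry_pair {D : ChevalleyDatum} {π : Equiv.Perm (Fin D.rank)} (hπ : D.IsDiagramSymmetry π)
    {L : List ℕ} (h : symList D = [List.range D.rank, L] ∨ symList D = [L, List.range D.rank]) (hne : π ≠ 1)
    (i : Fin D.rank) : (π i).val = L.getD i.val 0 := by
  have h1 : nodeList π D.rank ∈ symList D := mem_symPrefix hπ D.rank le_rfl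
  have h2 : nodeList π D.rank ≠ List.range D.rank := by
    intro e
    refine hne (Equiv.ext fun j => Fin.ext ?_)
    have := congrArg (fun l => l.getD j.val 0) e
    simpa [nodeList, List.getD, j.isLt] using this
  have h3 : nodeList π D.rank = L := by
    rcases h with h | h <;> rw [h] at h1 <;> simp at h1 <;> tauto
  have := congrArg (fun l => l.getD i.val 0) h3
  simpa [nodeList, List.getD, i.isLt] using this

theorem sym_two {D : ChevalleyDatum} {H : Subgroup (Equiv.Perm (Fin D.rank))} {π : Equiv.Perm (Fin D.rank)}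
    (hne : π ≠ 1) (hmem : π ∈ H) (hle : (symList D).length ≤ 2) (hH : ∀ ρ ∈ H, D.IsDiagramSymmetry ρ) :
    Nat.card ↥H = 2 := by
  refine le_antisymm (card_sym_le hle H hH) ?_
  haveI : Nontrivial ↥H := ⟨⟨⟨π, hmem⟩, 1, fun e => hne (congrArg Subtype.val e)⟩⟩
  exact Finite.one_lt_card

theorem char_of_pow {F : Type*} [Field F] [Fintype F] {m : ℕ} (hm : m = 2 ∨ m = 3) (hq : 3 ≤ Fintype.card F ∨ m = 2)
    (h : ∀ a b : F, (a + b) ^ m = a ^ m + b ^ m) : ringChar F = m := by
  have h1 := h 1 1
  rcases hm with rfl | rfl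
  · have h2 : (2 : F) = 0 := by linear_combination h1
    have hd : ringChar F ∣ 2 := (ringChar.spec F 2).1 (by exact_mod_cast h2)
    exact (Nat.dvd_prime Nat.prime_two).1 hd |>.resolve_left (CharP.ringChar_ne_one)
  · by_cases h2 : (2 : F) = 0
    · exfalso
      classical
      have hsub : (Finset.univ : Finset F) ⊆ {0, 1} := by
        intro t _
        have h3 := h t 1
        have h4 : t * (t + 1) = 0 := by linear_combination h3 - (t ^ 2 + t) * h2
        rcases mul_eq_zero.1 h4 with e | e
        · simp [e]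
        · simp [show t = 1 by linear_combination e - h2]
      classical
      have := Finset.card_le_card hsub
      rw [Finset.card_univ] at this
      have h5 : ({0, 1} : Finset F).card ≤ 2 := Finset.card_le_two
      rcases hq with hq | hq <;> omega
    · have h3 : (2 : F) * 3 = 0 := by linear_combination h1
      have h3' := (mul_eq_zero.1 h3).resolve_left h2
      have hd : ringChar F ∣ 3 := (ringChar.spec F 3).1 (by exact_mod_cast h3')
      exact (Nat.dvd_prime Nat.prime_three).1 hd |>.resolve_left (CharP.ringChar_ne_one)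

theorem char_of_reversal {D : ChevalleyDatum} {C : Cert} {L : List ℕ} {T : List (List ℤ)} {F : Type*} [Field F]
    [Fintype F] (hT : Tabs D C L T) {sw : List ℕ}
    (hsym : symList D = [List.range D.rank, sw] ∨ symList D = [sw, List.range D.rank]) (i j : Fin D.rank) {m : ℕ}
    (hm : m = 2 ∨ m = 3) (hq : 3 ≤ Fintype.card F ∨ m = 2) (hA : D.cartan i (D.simple j) = -(m : ℤ))
    (hA' : ∀ i' j' : Fin D.rank, i'.val = sw.getD i.val 0 → j'.val = sw.getD j.val 0 →
      D.cartan i' (D.simple j') = -1)
    (θ : MulAut ↥(D.group F)) (hne : diagHom hT θ ≠ 1) : ringChar F = m := by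
  obtain ⟨a, ha⟩ := Classical.choose_spec (exists_kind hT θ)
  change Shape hT.str (MulAut.conj a * θ) (diagHom hT θ) at ha
  obtain ⟨π', f, g, P⟩ := exists_param hT ha.1 ha.2.1
  obtain rfl : diagHom hT θ = π' := ha.unique hT.neg ⟨ha.1, ha.2.1, fun i t => ⟨f i t, P.pos i t⟩⟩
  obtain ⟨c, σ, -, -, hσ⟩ := P.exists_sigma hT.neg
  have hv := symmetry_pair (diagHom_symmetry hT θ) hsym hne
  have key : ∀ b : F, σ i b = σ j b ^ m := by
    intro b
    rcases eq_or_ne b 0 with rfl | hb
    · rcases hm with rfl | rfl <;> simp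
    · have h := hσ i j b hb
      rw [hA, hA' _ _ (hv i) (hv j), zpow_neg, zpow_natCast, zpow_neg_one, inv_inj] at h
      exact h.symm
  refine char_of_pow hm hq fun x y => ?_
  obtain ⟨x', rfl⟩ := (σ j).surjective x
  obtain ⟨y', rfl⟩ := (σ j).surjective y
  rw [← map_add, ← key, ← key, ← key, map_add]

theorem symList_G2 : symList chevG2 = [List.range chevG2.rank, [1, 0]] := by decide +kernel
theorem symList_F4 : symList chevF4 = [List.range chevF4.rank, [3, 2, 1, 0]] := by decide +kernel

/-- The cokernel data of G2. -/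
noncomputable def g2Coker : CokerData chevG2 1 :=
  ⟨⟨0, by decide +kernel⟩, fun j => [1, 0].getD j.val 0, fun i => [2, -1].getD i.val 0,
    fun i => [2, 3].getD i.val 0, fun i m => ([[0, 1], [0, 2]].getD i.val []).getD m.val 0,
    by decide +kernel, by decide +kernel, by decide +kernel, by decide +kernel⟩

/-- The cokernel data of F4. -/
noncomputable def f4Coker : CokerData chevF4 1 :=
  ⟨⟨0, by decide +kernel⟩, fun j => [1, 0, 0, 0].getD j.val 0, fun i => [2, -1, 0, 0].getD i.val 0,
    fun i => [2, 3, 4, 2].getD i.val 0,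
    fun i m => ([[0, 3, 2, 1], [0, 6, 4, 2], [0, 8, 6, 3], [0, 4, 3, 2]].getD i.val []).getD m.val 0,
    by decide +kernel, by decide +kernel, by decide +kernel, by decide +kernel⟩

theorem range_G2 {C : Cert} {L : List ℕ} {T : List (List ℤ)} {F : Type*} [Field F] [Fintype F] (p : ℕ)
    [Fact p.Prime] [CharP F p] (hT : Tabs chevG2 C L T) (hq : 3 ≤ Fintype.card F) :
    Nat.card ↥(diagHom (F := F) hT).range = if p = 3 then 2 else 1 := by
  split_ifs with h3
  · subst h3
    have hperf : commutator ↥(chevG2.group F) = ⊤ := by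
      refine G2.struct.commutator_eq_top G2.perfect fun _ => ?_
      classical
      by_contra h
      push Not at h
      have hsub : (Finset.univ : Finset F) ⊆ {0, 1} := fun a _ => by
        rcases eq_or_ne a 0 with rfl | ha
        · simp
        · simp [h a ha]
      have := (Finset.card_le_card hsub).trans Finset.card_le_two
      rw [Finset.card_univ] at this
      omega
    have hs := (G2.struct.simple (F := F) okNeg_G2 G2.irr opp_G2 hperf (by decide +kernel)).1
    have hexw : ∃ x y : chevG2.Idx, g2Special.inI (enc chevG2.rank chevG2.nroots x) = true ∧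
        g2Special.inI (enc chevG2.rank chevG2.nroots y) = true ∧
        ∃ r, r < chevG2.nroots ∧ chevG2.x F r (1 : F) x y ≠ (1 : Matrix chevG2.Idx chevG2.Idx F) x y := by
      refine ⟨Sum.inr ⟨7, by decide +kernel⟩, Sum.inl ⟨0, by decide +kernel⟩, by decide +kernel, by decide +kernel,
        7, by decide +kernel, ?_⟩
      rw [Matrix.one_apply_ne (by simp), ChevalleyDatum.x, dif_pos (show 7 < chevG2.nroots by decide +kernel)]
      simp only [ChevalleyDatum.xMat, Matrix.of_apply, if_true]
      rw [show (chevG2.cartanSR.getD 0 #[]).getD 7 0 = 2 by decide +kernel]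
      intro h
      have h2 : (2 : F) = 0 := by simpa using h
      have h23 : (3 : F) = 0 := by exact_mod_cast CharP.cast_eq_zero F 3
      exact one_ne_zero (α := F) (by linear_combination h23 - h2)
    obtain ⟨θ, hθ⟩ := g2Special.exists_special (p := 3) G2.struct g2Special_ok Nat.prime_three hs (by decide +kernel) hexw
    let π : Equiv.Perm (Fin chevG2.rank) := Equiv.swap ⟨0, by decide +kernel⟩ ⟨1, by decide +kernel⟩
    have hpos : ∀ r : Fin chevG2.nroots,
        (chevG2.nroots / 2 ≤ g2Special.root chevG2.rank r.val ↔ chevG2.nroots / 2 ≤ r.val) := by decide +kernel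
    have hπ : ∀ i : Fin chevG2.rank, g2Special.root chevG2.rank (chevG2.simple i) = chevG2.simple (π i) := by
      decide +kernel
    have hne : π ≠ 1 := by decide +kernel
    have hT' : Tabs chevG2 G2.cert [0, 1, 0, 1, 0, 1] G2.htTab := by
      obtain ⟨a, b, c, d, e⟩ := more_G2
      exact ⟨G2.struct, okNeg_G2, opp_G2, a, G2.ht, okChar_of_mem (by simp), b, c, d, e⟩
    obtain ⟨η, hη⟩ := g2Special.mem_range (p := 3) hT' g2Special_ok hθ hpos π hπ
    refine sym_two hne ⟨η, ?_⟩ sym_G2 fun ρ ⟨θ, e⟩ => e ▸ diagHom_symmetry hT θ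
    obtain ⟨a, ha⟩ := Classical.choose_spec (exists_kind hT' η)
    change Shape hT'.str (MulAut.conj a * η) (diagHom hT' η) at ha
    rw [hη] at ha
    exact diagHom_eq hT ⟨a, ha.1, ha.2.1, ha.2.2⟩
  · rw [Subgroup.card_eq_one, eq_bot_iff]
    rintro _ ⟨θ, rfl⟩
    rw [Subgroup.mem_bot]
    by_contra hne
    have h := char_of_reversal hT (Or.inl symList_G2) ⟨0, by decide +kernel⟩ ⟨1, by decide +kernel⟩ (m := 3)
      (Or.inr rfl) (Or.inl hq) (by decide +kernel) (by decide +kernel) θ hne
    exact h3 ((ringChar.eq F p).symm.trans h)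

theorem range_F4 {C : Cert} {L : List ℕ} {T : List (List ℤ)} {F : Type*} [Field F] [Fintype F] (p : ℕ)
    [Fact p.Prime] [CharP F p] (hT : Tabs chevF4 C L T) :
    Nat.card ↥(diagHom (F := F) hT).range = Nat.gcd 2 p := by
  by_cases h2 : p = 2
  · subst h2
    have hperf : commutator ↥(chevF4.group F) = ⊤ :=
      F4.struct.commutator_eq_top F4.perfect fun h => absurd h Bool.false_ne_true
    have hs := (F4.struct.simple (F := F) okNeg_F4 F4.irr opp_F4 hperf (by decide +kernel)).1
    have hexw : ∃ x y : chevF4.Idx, f4Special.inI (enc chevF4.rank chevF4.nroots x) = true ∧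
        f4Special.inI (enc chevF4.rank chevF4.nroots y) = true ∧
        ∃ r, r < chevF4.nroots ∧ chevF4.x F r (1 : F) x y ≠ (1 : Matrix chevF4.Idx chevF4.Idx F) x y := by
      refine ⟨Sum.inr ⟨chevF4.simple 1, by decide +kernel⟩, Sum.inl ⟨0, by decide +kernel⟩, by decide +kernel,
        by decide +kernel, chevF4.simple 1, by decide +kernel, ?_⟩
      rw [Matrix.one_apply_ne (by simp), ChevalleyDatum.x, dif_pos (show chevF4.simple 1 < chevF4.nroots by decide +kernel)]
      simp only [ChevalleyDatum.xMat, Matrix.of_apply, if_true]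
      rw [show (chevF4.cartanSR.getD 0 #[]).getD (chevF4.simple 1) 0 = -1 by decide +kernel]
      simp
    obtain ⟨θ, hθ⟩ := f4Special.exists_special (p := 2) F4.struct f4Special_ok Nat.prime_two hs (by decide +kernel) hexw
    let π : Equiv.Perm (Fin chevF4.rank) :=
      Equiv.swap ⟨0, by decide +kernel⟩ ⟨3, by decide +kernel⟩ * Equiv.swap ⟨1, by decide +kernel⟩ ⟨2, by decide +kernel⟩
    have hpos : ∀ r : Fin chevF4.nroots,
        (chevF4.nroots / 2 ≤ f4Special.root chevF4.rank r.val ↔ chevF4.nroots / 2 ≤ r.val) := by decide +kernel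
    have hπ : ∀ i : Fin chevF4.rank, f4Special.root chevF4.rank (chevF4.simple i) = chevF4.simple (π i) := by
      decide +kernel
    have hne : π ≠ 1 := by decide +kernel
    have hT' : Tabs chevF4 F4.cert [0, 1, 0, 2, 1, 0, 2, 1, 2, 3, 2, 1, 0, 2, 1, 2, 3, 2, 1, 0, 2, 1, 2, 3] F4.htTab := by
      obtain ⟨a, b, c, d, e⟩ := more_F4
      exact ⟨F4.struct, okNeg_F4, opp_F4, a, F4.ht, okChar_of_mem (by simp), b, c, d, e⟩
    obtain ⟨η, hη⟩ := f4Special.mem_range (p := 2) hT' f4Special_ok hθ hpos π hπ
    rw [show Nat.gcd 2 2 = 2 from rfl]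
    refine sym_two hne ⟨η, ?_⟩ sym_F4 fun ρ ⟨θ, e⟩ => e ▸ diagHom_symmetry hT θ
    obtain ⟨a, ha⟩ := Classical.choose_spec (exists_kind hT' η)
    change Shape hT'.str (MulAut.conj a * η) (diagHom hT' η) at ha
    rw [hη] at ha
    exact diagHom_eq hT ⟨a, ha.1, ha.2.1, ha.2.2⟩
  · rw [((Nat.coprime_primes Nat.prime_two Fact.out).2 (Ne.symm h2)).gcd_eq_one, Subgroup.card_eq_one, eq_bot_iff]
    rintro _ ⟨θ, rfl⟩
    rw [Subgroup.mem_bot]
    by_contra hne
    have h := char_of_reversal hT (Or.inl symList_F4) ⟨1, by decide +kernel⟩ ⟨2, by decide +kernel⟩ (m := 2)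
      (Or.inl rfl) (Or.inr rfl) (by decide +kernel) (by decide +kernel) θ hne
    exact h2 ((ringChar.eq F p).symm.trans h)

end Cfsg.Lib.Known.ChevAut
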